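import Groth.Agent.CurvOpenLib.Inst
import Groth.Agent.CurvLocusLib.LocP
import Groth.Agent.KRegLib.FlatBase
import Groth.Agent.KRegLib.Descend
import Groth.Agent.S8661
import Groth.Agent.Synt29.KoszulSyntomic

/-!
# The Koszul property as a pointwise property of flat morphisms
-/

set_option autoImplicit false
set_option linter.style.haveILetI false
set_option backward.isDefEq.respectTransparency false
set_option backward.isDefEq.respectTransparency.types false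

universe u

open CategoryTheory CategoryTheory.Limits AlgebraicGeometry Groth.Agent.KRegLib

namespace Groth.Agent.CurvOpenLib.Inst

variable {X Y Z : Scheme.{u}}

theorem isKoszulAt_iff_loc (f : X ⟶ Y) (x : X) : Synt.IsKoszulAt f x ↔ Loc IsLCI'.{u} f x := by
  constructor
  · intro h
    obtain ⟨⟨V, hV⟩, ⟨U, hU⟩, hx, e, hl⟩ := exists_chart_of_isKoszulAt f x h
    refine ⟨U, hx, (forall_isKoszulAt_iff (U.ι ≫ f)).1 fun u => ?_⟩
    haveI : IsAffine (U : Scheme.{u}) := hU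
    refine isKoszulAt_of_chart (U.ι ≫ f) u ⊤ (isAffineOpen_top _) V hV (fun y _ => e y.2) trivial ?_
    rw [← Scheme.Hom.appLE_comp_appLE U.ι f V U ⊤ e (fun y _ => y.2), CommRingCat.hom_comp]
    have : IsIso (U.ι.appLE U ⊤ (fun y _ => y.2)) := by
      rw [Scheme.Opens.ι_appLE]
      have he : U.ι ''ᵁ (⊤ : (U : Scheme.{u}).Opens) = U := by
        rw [Scheme.Hom.image_top_eq_opensRange, Scheme.Opens.opensRange_ι]
      have hi : ∀ {a b : X.Opens} (w : a ≤ b), a = b → IsIso (X.presheaf.map (homOfLE w).op) := by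
        rintro a b w rfl
        rw [Subsingleton.elim (homOfLE w) (𝟙 _)]
        infer_instance
      exact hi _ he
    exact ((lci_propertyIsLocal.respectsIso).cancel_right_isIso _ _).2 hl
  · rintro ⟨U, hx, hU⟩
    obtain ⟨V, hV, hxV, -⟩ := exists_isAffineOpen_mem_and_subset (U := ⊤) (x := f x) trivial
    obtain ⟨W, hW, hxW, hWU⟩ := exists_isAffineOpen_mem_and_subset (U := U ⊓ f ⁻¹ᵁ V) (x := x) ⟨hx, hxV⟩
    have e : W ≤ f ⁻¹ᵁ V := fun y hy => (hWU hy).2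
    have h2 := HasRingHomProperty.appLE IsLCI'.{u} (U.ι ≫ f) hU ⟨V, hV⟩
      ⟨U.ι ⁻¹ᵁ W, hW.preimage_of_isOpenImmersion U.ι
        (fun y hy => by rw [Scheme.Opens.opensRange_ι]; exact (hWU hy).1)⟩ (fun y hy => e hy)
    refine isKoszulAt_of_chart f x W hW V hV e hxW ?_
    rw [← Scheme.Hom.appLE_comp_appLE U.ι f V W (U.ι ⁻¹ᵁ W) e le_rfl, CommRingCat.hom_comp] at h2
    have hi : IsIso (U.ι.appLE W (U.ι ⁻¹ᵁ W) le_rfl) := by
      rw [← Scheme.Hom.app_eq_appLE]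
      exact U.ι.isIso_app W (fun y hy => by rw [Scheme.Opens.opensRange_ι]; exact (hWU hy).1)
    exact ((lci_propertyIsLocal.respectsIso).cancel_right_isIso _ _).1 h2

theorem isLCI'_of_smooth (f : X ⟶ Y) [Smooth f] : IsLCI'.{u} f :=
  (forall_isKoszulAt_iff f).1 (CurvLocusLib.isKoszulAt_of_smooth f)

theorem isLCI'_comp {f : X ⟶ Y} {g : Y ⟶ Z} (hf : IsLCI'.{u} f) (hg : IsLCI'.{u} g) : IsLCI'.{u} (f ≫ g) :=
  MorphismProperty.comp_mem _ f g hf hg

theorem loc_lci_precomp (e : X ⟶ Y) (g : Y ⟶ Z) [Etale e] (x : X) :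
    Loc IsLCI'.{u} (e ≫ g) x ↔ Loc IsLCI'.{u} g (e x) := by
  constructor
  · rintro ⟨U, hx, hU⟩
    let V : Y.Opens := ⟨_, e.isOpenMap _ U.2⟩
    have hle : U ≤ e ⁻¹ᵁ V := fun z hz => ⟨z, hz, rfl⟩
    refine ⟨V, ⟨x, hx, rfl⟩, (forall_isKoszulAt_iff _).1 fun v => ?_⟩
    haveI : Etale (e.resLE V U hle) := inferInstance
    have : Surjective (e.resLE V U hle) := ⟨by
      rintro ⟨_, z, hz, rfl⟩
      refine ⟨⟨z, hz⟩, Subtype.ext ?_⟩
      exact ((Scheme.Hom.comp_apply (e.resLE V U hle) V.ι (⟨z, hz⟩ : U)).symm.trans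
        ((congrArg (fun k : Scheme.Opens.toScheme U ⟶ Y => k (⟨z, hz⟩ : U)) (e.resLE_comp_ι hle)).trans
          (Scheme.Hom.comp_apply U.ι e (⟨z, hz⟩ : U))) :)⟩
    refine isKoszulAt_of_syntomic_precomp (e.resLE V U hle)
      ((Synt29.flat_and_isKoszulAt_iff (e.resLE V U hle)).1
        ⟨inferInstance, CurvLocusLib.isKoszulAt_of_smooth _⟩) (V.ι ≫ g) ?_ v
    rw [Scheme.Hom.resLE_comp_ι_assoc]
    exact (forall_isKoszulAt_iff _).2 hU
  · rintro ⟨V, hx, hV⟩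
    refine ⟨e ⁻¹ᵁ V, hx, ?_⟩
    rw [← morphismRestrict_ι_assoc]
    exact isLCI'_comp (isLCI'_of_smooth _) hV

theorem loc_lci_postcomp (g : X ⟶ Y) (j : Y ⟶ Z) [Etale j] (x : X) :
    Loc IsLCI'.{u} (g ≫ j) x ↔ Loc IsLCI'.{u} g x := by
  constructor <;> rintro ⟨U, hx, hU⟩ <;> refine ⟨U, hx, ?_⟩
  · refine (forall_isKoszulAt_iff _).1 (isKoszulAt_of_comp_smooth (U.ι ≫ g) j ?_)
    rw [Category.assoc]
    exact (forall_isKoszulAt_iff _).2 hU
  · rw [← Category.assoc]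
    exact isLCI'_comp hU (isLCI'_of_smooth j)

theorem ptProp_koszul : GenLocus.PtProp.{u} (fun {_ _} h x => Synt.IsKoszulAt h x) where
  precomp e g _ _ _ x := by rw [isKoszulAt_iff_loc, isKoszulAt_iff_loc, loc_lci_precomp]
  postcomp g j _ _ _ x := by rw [isKoszulAt_iff_loc, isKoszulAt_iff_loc, loc_lci_postcomp]
  isOpen f _ _ := by simpa only [isKoszulAt_iff_loc] using isOpen_loc IsLCI'.{u} f
  baseChange {X Y X' Y' p q f g} _ _ _ _ sq x' := by
    haveI : Flat (f ≫ 𝟙 Y) := by rw [Category.comp_id]; infer_instance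
    haveI : LocallyOfFinitePresentation (f ≫ 𝟙 Y) := by rw [Category.comp_id]; infer_instance
    exact isKoszulAt_baseChange_iff f (𝟙 Y) (g' := 𝟙 Y') (h := g) (IsPullback.of_vert_isIso ⟨by simp⟩) sq x'

end Groth.Agent.CurvOpenLib.Inst
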