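import Groth.Agent.CurvOpenLib.Inst
import Groth.Agent.CurvOpenLib.Koszul
import Groth.Agent.AlgSpDec.AffineProps
import Groth.Agent.AlgSpDec.FieldFibre
import Groth.Agent.AlgSpPts.Misc
import Groth.Agent.CurvOpenLib.ProjSp
import Groth.Agent.PnCoh.Chow.Proper
import Groth.Agent.S10829
import Groth.Agent.SmoothReg.Scheme
import Groth.Agent.CurvLocusLib.LocP
import Groth.Agent.LC.GorRing

/-!
# The projective line as a family of curves
-/

set_option autoImplicit false
set_option linter.style.haveILetI false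
set_option backward.isDefEq.respectTransparency false
set_option backward.isDefEq.respectTransparency.types false

universe u

open CategoryTheory CategoryTheory.Limits AlgebraicGeometry AlgSp Groth.Agent.AlgSpLib

namespace Groth.Agent.CurvOpenLib

variable {S : Scheme.{u}}

/-- A pointwise property at all points of a morphism of schemes holds at all points of the sheaf morphism. -/
theorem at_yon_map {Q : ∀ {X Y : Scheme.{u}}, (X ⟶ Y) → X → Prop} {U V : Over S} (h : U ⟶ V)
    (hq : ∀ u, Q h.left u) (x : Points ((yon S).obj U)) :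
    GenLocus.At @Q ((yon S).map h) x :=
  ⟨U, V, 𝟙 _, 𝟙 _, h, Points.toScheme U x, repWith_id _ U, repWith_id _ V, by simp,
    by rw [Points.ofPt_eq_map_ofScheme, Points.map_id, Points.ofScheme_toScheme], hq _⟩

namespace P1

variable (Ω : Type u) [Field Ω] (t : Spec (CommRingCat.of Ω) ⟶ S)

/-- The projective line over a field, as an unmarked family. -/
noncomputable abbrev pt : CurvSt.PtFamObj S 0 :=
  ⟨Over.mk t, CohB1.ProjSpace 1 Ω, CohB1.ProjSpace.toSpec 1 Ω, Fin.elim0, fun i => i.elim0⟩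

theorem fibreDim (x : CohB1.ProjSpace 1 Ω) :
    FlatMor.fibreDimAt (CohB1.ProjSpace.toSpec 1 Ω) x = ((1 : ℕ) : WithBot ℕ∞) := by
  let f := CohB1.ProjSpace.toSpec 1 Ω
  haveI : Smooth f := ProjSp.smooth_toSpec 1 Ω
  haveI : IsIntegral (CohB1.ProjSpace 1 Ω) := ProjSp.isIntegral_projSpace 1 Ω
  haveI : Subsingleton ↥(Spec (CommRingCat.of Ω)) := FibDim.subsingleton_spec_field Ω
  have hdim := Groth.Agent.S10829.result Ω 1
  have hle : ∀ z, FlatMor.fibreDimAt f z ≤ topologicalKrullDim ↥(CohB1.ProjSpace 1 Ω) := fun z => by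
    rw [AlgSpDec.FieldFibre.fibreDimAt_of_subsingleton]
    exact iInf_le_of_le ⟨⊤, trivial⟩ (topologicalKrullDim_subspace_le _ _)
  have hlc : IsLocallyConstant (fun z => FlatMor.fibreDimAt f z) := by
    refine (IsLocallyConstant.iff_exists_open _).2 fun z => ?_
    obtain ⟨U, hU, hz, hd⟩ := Inst.smooth_dim_const f ((Inst.smooth_iff_forall f).1 inferInstance z)
    exact ⟨U, hU, hz, hd⟩
  have hc : ∀ z, FlatMor.fibreDimAt f z = FlatMor.fibreDimAt f x := fun z =>
    hlc.apply_eq_of_isPreconnected isPreconnected_univ trivial trivial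
  refine le_antisymm ((hle x).trans hdim.le) ?_
  rw [← hdim, FibDim.topologicalKrullDim_eq_iSup_rd f]
  exact iSup_le fun z => (FibDim.fibreDimAt_ge_rd f (specializes_refl z)).trans (hc z).le

theorem isCurveFam : CurvSt.IsCurveFam ((CurvSt.toSpFam S 0).obj (pt Ω t)) := by
  let f := (pt Ω t).fOver
  haveI hs : Smooth f.left := ProjSp.smooth_toSpec 1 Ω
  haveI hp : IsProper f.left := PnCoh.Chow.isProper_toSpec 1 Ω
  refine ⟨IsAlgSpace.yon_obj _, ?_, ⟨?_, ⟨?_, ?_⟩, ?_⟩, ⟨?_, ?_, ?_⟩, ?_⟩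
  · exact locP_of_repWith (P := @Flat) ((repWith_yon_map_iff _ f).2 inferInstance)
  · exact (isSeparatedMor_yon_map_iff f).2 inferInstance
  · exact locP_of_repWith (P := @LocallyOfFiniteType) ((repWith_yon_map_iff _ f).2 inferInstance)
  · exact AlgSpPts.isQuasiCompactMor_of_repWith ((repWith_yon_map_iff _ f).2 inferInstance)
  · exact AlgSpDec.isUnivClosedMor_of_repWith_universallyClosed ((repWith_yon_map_iff _ f).2 inferInstance)
  · exact locP_of_repWith (P := @LocallyOfFinitePresentation) ((repWith_yon_map_iff _ f).2 inferInstance)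
  · exact AlgSpPts.isQuasiCompactMor_of_repWith ((repWith_yon_map_iff _ f).2 inferInstance)
  · exact (isQuasiSeparatedMor_yon_map_iff f).2 inferInstance
  · exact fun x => at_yon_map (Q := fun {_ _} h u => FlatMor.fibreDimAt h u ≤ ((1 : ℕ) : WithBot ℕ∞)) f
      (fun u => (fibreDim Ω u).le) x

/-- The projective line as an object of the stack of curves. -/
noncomputable abbrev curve : (CurvSt.Curves S 0).obj :=
  ⟨(CurvSt.toSpFam S 0).obj (pt Ω t), isCurveFam Ω t⟩

theorem smooth : Smooth (pt Ω t).fOver.left := ProjSp.smooth_toSpec 1 Ω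

theorem regular_stalk (u : (pt Ω t).totOver.left) :
    IsRegularLocalRing ((pt Ω t).totOver.left.presheaf.stalk u) := by
  haveI : Smooth (CohB1.ProjSpace.toSpec 1 Ω) := ProjSp.smooth_toSpec 1 Ω
  exact SmoothReg.isRegularLocalRing_stalk_of_mem_smoothLocus (CohB1.ProjSpace.toSpec 1 Ω)
    (by rw [Scheme.Hom.smoothLocus_eq_top]; trivial)

theorem isCMAt (u : (pt Ω t).totOver.left) : MoreMor.IsCMAt (pt Ω t).fOver.left u := by
  obtain ⟨hfl, ⟨e⟩⟩ := CurvLocusLib.fibre_of_etale_base (k := Ω) (CohB1.ProjSpace.toSpec 1 Ω) (𝟙 _) u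
  haveI : Smooth (CohB1.ProjSpace.toSpec 1 Ω) := ProjSp.smooth_toSpec 1 Ω
  haveI : IsLocallyNoetherian (CohB1.ProjSpace 1 Ω) :=
    LocallyOfFiniteType.isLocallyNoetherian (CohB1.ProjSpace.toSpec 1 Ω)
  haveI : IsNoetherianRing ((pt Ω t).totOver.left.presheaf.stalk u) :=
    inferInstanceAs (IsNoetherianRing ((CohB1.ProjSpace 1 Ω).presheaf.stalk u))
  haveI : IsRegularLocalRing ((CohB1.ProjSpace 1 Ω).presheaf.stalk u) := regular_stalk Ω t u
  haveI : LocCoh.IsGorensteinLocalRing ((CohB1.ProjSpace 1 Ω).presheaf.stalk u) :=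
    LC.gorenstein_of_isRegularLocalRing (R := (CohB1.ProjSpace 1 Ω).presheaf.stalk u)
  exact ⟨hfl, Triage.CMMor.isCM_of_equiv e LC.isCohenMacaulayLocalRing_of_gorenstein⟩

theorem locP_cm : LocP (fun _ _ g => ∀ x, MoreMor.IsCMAt g x) (curve Ω t).obj.f := by
  have h := isCurveFam Ω t
  refine (GenLocus.locP_iff Inst.ptProp_cm (fun _ _ _ => Iff.rfl) h.1 (IsAlgSpace.yon_obj _) h.2.1
    h.2.2.2.1.1).2 fun x => at_yon_map (Q := fun {_ _} g u => MoreMor.IsCMAt g u) _ (fun u => ?_) x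
  exact isCMAt Ω t u

theorem hasAt_dim (x : Points (curve Ω t).obj.X) :
    HasAtMor (fun _ _ h u => FlatMor.fibreDimAt h u = ((1 : ℕ) : WithBot ℕ∞)) (curve Ω t).obj.f x :=
  at_yon_map (Q := fun {_ _} h u => FlatMor.fibreDimAt h u = ((1 : ℕ) : WithBot ℕ∞)) (pt Ω t).fOver
    (fun u => fibreDim Ω u) x

/-- An object of a full substack over a point, from a proof that the line lies in it. -/
theorem nonempty_fiber {Q : (CurvSt.Curves S 0).obj → Prop} (h : Q (curve Ω t)) :
    Nonempty ((AlgSt.fullSub (CurvSt.Curves S 0) Q).p.Fiber (Over.mk t)) :=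
  ⟨⟨⟨curve Ω t, h⟩, rfl⟩⟩

theorem locP_lci : IsLCIMor (curve Ω t).obj.f := by
  have h := isCurveFam Ω t
  refine (GenLocus.locP_iff Inst.ptProp_koszul (P := lci) (fun _ _ _ => Iff.rfl) h.1 (IsAlgSpace.yon_obj _) h.2.1
    h.2.2.2.1.1).2 fun x => at_yon_map (Q := fun {_ _} g u => Synt.IsKoszulAt g u) _ (fun u => ?_) x
  haveI : Smooth (pt Ω t).fOver.left := smooth Ω t
  exact CurvLocusLib.isKoszulAt_of_smooth _ u

end P1

end Groth.Agent.CurvOpenLib
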