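import Mathlib
import Groth.Agent.LC.GorFlat

/-!
# Frobenius functionals and openness of the Gorenstein condition for finite projective algebras
-/

set_option autoImplicit false
set_option linter.style.haveILetI false
set_option backward.isDefEq.respectTransparency false
set_option backward.isDefEq.respectTransparency.types false

universe u

open TensorProduct IsLocalRing

namespace Groth.Agent.CurvOpenLib.GorFrob

section Field

variable (k D : Type u) [Field k] [CommRing D] [Algebra k D]

/-- Some linear form generates the dual module. -/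
def HasGen : Prop :=
  ∃ l : D →ₗ[k] k, ∀ φ : D →ₗ[k] k, ∃ b : D, ∀ x, φ x = l (b * x)

variable {k D}

/-- A nonzero element has a nonzero multiple killed by a nilpotent ideal. -/
theorem exists_mul_annihilated (I : Ideal D) (n : ℕ) :
    ∀ b : D, b ≠ 0 → (∀ r ∈ I ^ n, r * b = 0) → ∃ c, c * b ≠ 0 ∧ ∀ r ∈ I, r * (c * b) = 0 := by
  induction n with
  | zero =>
    intro b hb h
    exact absurd (by simpa using h 1 (by simp)) hb
  | succ n ih =>
    intro b hb h
    by_cases hI : ∀ r ∈ I, r * b = 0
    · exact ⟨1, by simpa using hb, by simpa using hI⟩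
    push Not at hI
    obtain ⟨m, hm, hmb⟩ := hI
    obtain ⟨c, hc, hc'⟩ := ih (m * b) hmb fun r hr => by
      rw [← mul_assoc]
      exact h _ (pow_succ I n ▸ Ideal.mul_mem_mul hr hm)
    exact ⟨c * m, by rwa [mul_assoc], by rwa [mul_assoc]⟩

variable [Module.Finite k D]

theorem hasGen_of_gorenstein [LocCoh.IsGorensteinLocalRing D] : HasGen k D := by
  haveI : IsArtinianRing D := IsArtinianRing.of_finite k D
  obtain ⟨N, hN⟩ := (isArtinianRing_iff_isNilpotent_maximalIdeal D).1 inferInstance
  have hN' : ∀ b : D, ∀ r ∈ maximalIdeal D ^ N, r * b = 0 := fun b r hr => by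
    rw [hN, Ideal.zero_eq_bot, Ideal.mem_bot] at hr
    rw [hr, zero_mul]
  obtain ⟨s₀, hs₀, hms₀⟩ := exists_mul_annihilated (maximalIdeal D) N 1 one_ne_zero (hN' 1)
  rw [mul_one] at hs₀ hms₀
  obtain ⟨-, hsoc⟩ := LC.socle_of_gorenstein hs₀ hms₀
  obtain ⟨l, hl⟩ : ∃ l : D →ₗ[k] k, l s₀ ≠ 0 := by
    by_contra h
    push Not at h
    exact hs₀ ((Module.forall_dual_apply_eq_zero_iff k s₀).1 h)
  let Φ : D →ₗ[k] Module.Dual k D := l.compRight k ∘ₗ LinearMap.mul k D
  have hΦ : ∀ b x, Φ b x = l (b * x) := fun b x => rfl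
  have hinj : Function.Injective Φ := by
    rw [injective_iff_map_eq_zero]
    intro b hb
    by_contra hb0
    obtain ⟨c, hc, hc'⟩ := exists_mul_annihilated (maximalIdeal D) N b hb0 (hN' b)
    obtain ⟨e, he⟩ := hsoc _ hc'
    have he' : IsUnit e := by
      by_contra hne
      exact hc (by rw [he, hms₀ e ((mem_maximalIdeal _).2 hne)])
    obtain ⟨v, rfl⟩ := he'
    refine hl ?_
    have : s₀ = b * (↑v⁻¹ * c) := by
      calc s₀ = ↑v⁻¹ * (↑v * s₀) := by rw [← mul_assoc, Units.inv_mul, one_mul]
        _ = _ := by rw [← he]; ring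
    rw [this, ← hΦ, hb]
    rfl
  have hsurj : Function.Surjective Φ :=
    (LinearMap.injective_iff_surjective_of_finrank_eq_finrank Subspace.dual_finrank_eq.symm).1 hinj
  exact ⟨l, fun φ => (hsurj φ).imp fun b hb x => by rw [← hΦ, hb]⟩

theorem HasGen.eq_zero {l : D →ₗ[k] k} (hl : ∀ φ : D →ₗ[k] k, ∃ b : D, ∀ x, φ x = l (b * x))
    {b : D} (hb : ∀ x, l (b * x) = 0) : b = 0 := by
  refine (Module.forall_dual_apply_eq_zero_iff k b).1 fun φ => ?_
  obtain ⟨c, hc⟩ := hl φ
  rw [hc, mul_comm, hb]

theorem hasGen_localization (h : HasGen k D) (P : Ideal D) [P.IsPrime] :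
    HasGen k (Localization.AtPrime P) := by
  haveI : IsArtinianRing D := IsArtinianRing.of_finite k D
  haveI : IsNoetherianRing D := inferInstance
  obtain ⟨l, hl⟩ := h
  let C := Localization.AtPrime P
  let π : D →ₐ[k] C := IsScalarTower.toAlgHom k D C
  have hπ : Function.Surjective π := IsArtinianRing.localization_surjective P.primeCompl C
  obtain ⟨T, hT⟩ : (RingHom.ker π).FG := IsNoetherian.noetherian _
  have hT' : ∀ t : T, ∃ s : P.primeCompl, (s : D) * t = 0 := fun t =>
    (IsLocalization.map_eq_zero_iff P.primeCompl C (t : D)).1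
      (show π t = 0 from RingHom.mem_ker.1 (hT ▸ Submodule.subset_span t.2))
  choose s hs using hT'
  let e : P.primeCompl := ∏ t, s t
  have he : ∀ x : D, π x = 0 → (e : D) * x = 0 := fun x hx => by
    have hx' : x ∈ Submodule.span D (T : Set D) := by
      rw [show Submodule.span D (T : Set D) = RingHom.ker π from hT]
      exact RingHom.mem_ker.2 hx
    clear hx
    induction hx' using Submodule.span_induction with
    | mem x hx =>
      obtain ⟨d, hd⟩ := Finset.dvd_prod_of_mem s (Finset.mem_univ ⟨x, hx⟩)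
      have hd' : (e : D) = s ⟨x, hx⟩ * d := by simp [e, hd]
      rw [hd', mul_right_comm, hs ⟨x, hx⟩, zero_mul]
    | zero => simp
    | add x y _ _ hx hy => rw [mul_add, hx, hy, add_zero]
    | smul a x _ hx => rw [smul_eq_mul, mul_left_comm, hx, mul_zero]
  obtain ⟨g, hg⟩ := π.toLinearMap.exists_rightInverse_of_surjective (LinearMap.range_eq_top.2 hπ)
  have hg' : ∀ c, π (g c) = c := fun c => LinearMap.congr_fun hg c
  refine ⟨(l ∘ₗ LinearMap.mulLeft k (e : D)) ∘ₗ g, fun φ => ?_⟩
  obtain ⟨b, hb⟩ := hl (φ ∘ₗ π.toLinearMap)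
  have hb0 : ∀ x, π x = 0 → b * x = 0 := fun x hx => HasGen.eq_zero hl fun y => by
    rw [mul_assoc, ← hb]
    show φ (π (x * y)) = 0
    rw [map_mul, hx, zero_mul, map_zero]
  obtain ⟨w, hw⟩ := hπ (↑(IsLocalization.map_units C e).unit⁻¹)
  refine ⟨π (b * w), fun c => ?_⟩
  have h1 : φ c = l (b * g c) := by
    rw [← hb]
    show φ c = φ (π (g c))
    rw [hg']
  have h2 : π (w * e * g c - g c) = 0 := by
    simp only [map_sub, map_mul, hw, hg']
    rw [show π (e : D) = algebraMap D C e from rfl, IsUnit.val_inv_mul, one_mul, sub_self]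
  have h3 : π (g (π (b * w) * c) - b * w * g c) = 0 := by
    simp only [map_sub, map_mul, hg', sub_self]
  have h4 := he _ h3
  have h5 := hb0 _ h2
  simp only [LinearMap.comp_apply, LinearMap.mulLeft_apply, h1]
  congr 1
  linear_combination -h4 - h5

/-- A local algebra with a generating form is Gorenstein. -/
theorem gorenstein_of_hasGen [IsLocalRing D] (h : HasGen k D) : LocCoh.IsGorensteinLocalRing D := by
  haveI : IsArtinianRing D := IsArtinianRing.of_finite k D
  haveI : IsNoetherianRing D := inferInstance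
  obtain ⟨N, hN⟩ := (isArtinianRing_iff_isNilpotent_maximalIdeal D).1 inferInstance
  obtain ⟨s, hs, hms⟩ := exists_mul_annihilated (maximalIdeal D) N 1 one_ne_zero fun r hr => by
    rw [hN, Ideal.zero_eq_bot, Ideal.mem_bot] at hr
    rw [hr, zero_mul]
  rw [mul_one] at hs hms
  obtain ⟨l, hl⟩ := h
  let Soc : Submodule k D :=
    { carrier := {t | ∀ r ∈ maximalIdeal D, r * t = 0}
      zero_mem' := fun r _ => mul_zero r
      add_mem' := fun {t t'} h h' r hr => by rw [mul_add, h r hr, h' r hr, add_zero]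
      smul_mem' := fun a t h r hr => by rw [mul_smul_comm, h r hr, smul_zero] }
  let M : Submodule k D := (maximalIdeal D).restrictScalars k
  let ev : Soc →ₗ[k] Module.Dual k (D ⧸ M) :=
    { toFun := fun t => M.liftQ (l ∘ₗ LinearMap.mulLeft k (t : D)) fun r hr => by
        show l ((t : D) * r) = 0
        rw [mul_comm, t.2 r hr, map_zero]
      map_add' := fun t t' => Submodule.linearMap_qext _ (LinearMap.ext fun q => by
        show l (((t : D) + t') * q) = l (t * q) + l (t' * q)
        rw [add_mul, map_add])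
      map_smul' := fun a t => Submodule.linearMap_qext _ (LinearMap.ext fun q => by
        show l ((a • (t : D)) * q) = a • l (t * q)
        rw [smul_mul_assoc, map_smul]) }
  have hev : Function.Injective ev := by
    rw [injective_iff_map_eq_zero]
    intro t ht
    exact Subtype.ext (HasGen.eq_zero hl fun x => LinearMap.congr_fun ht (Submodule.Quotient.mk x))
  let j : D ⧸ M →ₗ[k] Soc :=
    M.liftQ ((LinearMap.mulRight k s).codRestrict Soc fun c r hr => by
        rw [LinearMap.mulRight_apply, mul_left_comm, hms r hr, mul_zero])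
      (fun r hr => Subtype.ext (hms r hr))
  have hj : Function.Injective j := by
    rw [injective_iff_map_eq_zero]
    intro c hc
    obtain ⟨c, rfl⟩ := Submodule.Quotient.mk_surjective _ c
    rw [Submodule.Quotient.mk_eq_zero]
    by_contra hcu
    exact hs ((notMem_maximalIdeal.1 hcu).mul_right_eq_zero.1 (congrArg Subtype.val hc))
  have hdim : Module.finrank k (D ⧸ M) = Module.finrank k Soc :=
    le_antisymm (LinearMap.finrank_le_finrank_of_injective hj)
      ((LinearMap.finrank_le_finrank_of_injective hev).trans Subspace.dual_finrank_eq.le)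
  refine LC.gorenstein_of_socle ⟨N, hN⟩ hs hms fun t ht => ?_
  obtain ⟨c, hc⟩ := (LinearMap.injective_iff_surjective_of_finrank_eq_finrank hdim).1 hj ⟨t, ht⟩
  obtain ⟨c, rfl⟩ := Submodule.Quotient.mk_surjective _ c
  exact ⟨c, (congrArg Subtype.val hc).symm⟩

theorem gorenstein_localization_of_hasGen (h : HasGen k D) (P : Ideal D) [P.IsPrime] :
    LocCoh.IsGorensteinLocalRing (Localization.AtPrime P) := by
  haveI : IsArtinianRing D := IsArtinianRing.of_finite k D
  haveI : Module.Finite k (Localization.AtPrime P) :=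
    Module.Finite.of_surjective (IsScalarTower.toAlgHom k D (Localization.AtPrime P)).toLinearMap
      (IsArtinianRing.localization_surjective P.primeCompl _)
  exact gorenstein_of_hasGen (hasGen_localization h P)

end Field

section Family

variable {A B : Type u} [CommRing A] [CommRing B] [Algebra A B] [Module.Finite A B] [Module.Projective A B]

/-- A linear form into a residue field lifts after clearing denominators. -/
theorem exists_lift (p : Ideal A) [p.IsPrime] (r : B →ₗ[A] p.ResidueField) :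
    ∃ t ∉ p, ∃ l : B →ₗ[A] A, ∀ x, algebraMap A p.ResidueField (l x) = t • r x := by
  obtain ⟨T, hT⟩ := (inferInstance : Module.Finite A B).fg_top
  have hfrac : ∀ z : p.ResidueField, ∃ t, t ∉ p ∧ ∃ a : A, t • z = algebraMap A p.ResidueField a := fun z => by
    obtain ⟨⟨a, d⟩, h⟩ := IsLocalization.surj (nonZeroDivisors (A ⧸ p)) z
    obtain ⟨a', rfl⟩ := Ideal.Quotient.mk_surjective a
    obtain ⟨d', hd'⟩ := Ideal.Quotient.mk_surjective (d : A ⧸ p)
    refine ⟨d', fun hm => ?_, a', ?_⟩
    · exact nonZeroDivisors.ne_zero d.2 (by rw [← hd', Ideal.Quotient.eq_zero_iff_mem.2 hm])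
    · have h' : z * algebraMap (A ⧸ p) p.ResidueField (Ideal.Quotient.mk p d') =
          algebraMap (A ⧸ p) p.ResidueField (Ideal.Quotient.mk p a') := by rw [hd']; exact h
      rw [Algebra.smul_def, mul_comm]
      exact h'
  choose den hden num hnum using hfrac
  let t := ∏ b ∈ T, den (r b)
  have ht : t ∉ p := fun h => by
    obtain ⟨b, -, hb⟩ := (‹p.IsPrime›.prod_mem_iff).1 h
    exact hden _ hb
  have hrange : ∀ x, t • r x ∈ LinearMap.range (Algebra.linearMap A p.ResidueField) := fun x => by
    have hx : x ∈ Submodule.span A (T : Set B) := hT ▸ trivial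
    induction hx using Submodule.span_induction with
    | mem x hx =>
      obtain ⟨d, hd⟩ := Finset.dvd_prod_of_mem (fun b => den (r b)) hx
      refine ⟨d * num (r x), ?_⟩
      rw [Algebra.linearMap_apply, map_mul, ← hnum (r x), show t = den (r x) * d from hd,
        mul_comm (den (r x)) d, mul_smul, Algebra.smul_def d]
    | zero => simp
    | add x y _ _ hx hy => rw [map_add, smul_add]; exact Submodule.add_mem _ hx hy
    | smul a x _ hx => rw [map_smul, smul_comm]; exact Submodule.smul_mem _ a hx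
  obtain ⟨l, hl⟩ := Module.projective_lifting_property (Algebra.linearMap A p.ResidueField).rangeRestrict
    ((t • r).codRestrict _ hrange) (LinearMap.surjective_rangeRestrict _)
  exact ⟨t, ht, l, fun x => congrArg Subtype.val (LinearMap.congr_fun hl x)⟩

/-- A linear form with values in an ideal is a combination of linear forms with coefficients there. -/
theorem mem_smul_of_apply_mem (I : Ideal A) {ψ : B →ₗ[A] A} (h : ∀ x, ψ x ∈ I) :
    ψ ∈ I • (⊤ : Submodule A (B →ₗ[A] A)) := by
  obtain ⟨n, f, g, -, -, hfg⟩ := Module.Finite.exists_comp_eq_id_of_projective A B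
  have : ψ = ∑ i, ψ (f (Pi.single i 1)) • (LinearMap.proj i ∘ₗ g) := by
    ext x
    have hx : f (g x) = x := LinearMap.congr_fun hfg x
    conv_lhs => rw [← hx, pi_eq_sum_univ' (g x)]
    simp [map_sum, map_smul, mul_comm]
  rw [this]
  exact Submodule.sum_mem _ fun i _ => Submodule.smul_mem_smul (h _) trivial

theorem finite_dual : Module.Finite A (B →ₗ[A] A) := by
  obtain ⟨n, f, g, -, -, hfg⟩ := Module.Finite.exists_comp_eq_id_of_projective A B
  refine Module.Finite.of_surjective (LinearMap.lcomp A A g) fun φ => ⟨φ ∘ₗ f, ?_⟩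
  show (φ ∘ₗ f) ∘ₗ g = φ
  rw [LinearMap.comp_assoc, hfg, LinearMap.comp_id]

/-- Generation of the dual of one fibre spreads out to a basic open of the base. -/
theorem exists_hasGen_fiber (p : Ideal A) [p.IsPrime] (h : HasGen p.ResidueField (p.Fiber B)) :
    ∃ a ∉ p, ∀ (p' : Ideal A) [p'.IsPrime], a ∉ p' → HasGen p'.ResidueField (p'.Fiber B) := by
  obtain ⟨lb, hlb⟩ := h
  let lr : B →ₗ[A] p.ResidueField :=
    lb.restrictScalars A ∘ₗ (Algebra.TensorProduct.includeRight : B →ₐ[A] p.Fiber B).toLinearMap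
  have hlr : ∀ b, lr b = lb (1 ⊗ₜ b) := fun b => rfl
  obtain ⟨t, ht, l, hl⟩ := exists_lift p lr
  let Φ : B →ₗ[A] (B →ₗ[A] A) := l.compRight A ∘ₗ LinearMap.mul A B
  have hΦ : ∀ b x, Φ b x = l (b * x) := fun b x => rfl
  let Q := (B →ₗ[A] A) ⧸ LinearMap.range Φ
  haveI := finite_dual (A := A) (B := B)
  have key : ∀ φ : B →ₗ[A] A, ∃ v ∉ p, v • (Submodule.Quotient.mk φ : Q) ∈ p • (⊤ : Submodule A Q) := fun φ => by
    obtain ⟨bb, hbb⟩ := hlb (LinearMap.liftBaseChange p.ResidueField (Algebra.linearMap A p.ResidueField ∘ₗ φ))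
    obtain ⟨v, hv, b, hb⟩ := Ideal.Fiber.exists_smul_eq_one_tmul p bb
    refine ⟨t * v, fun hm => (Ideal.IsPrime.mem_or_mem ‹p.IsPrime› hm).elim ht hv, ?_⟩
    have hz : ∀ x, ((t * v) • φ - Φ b) x ∈ p := fun x => by
      rw [← Ideal.algebraMap_residueField_eq_zero]
      have h1 : algebraMap A p.ResidueField (φ x) = lb (bb * (1 ⊗ₜ x)) := by
        rw [← hbb]; simp
      have h2 : v • lb (bb * (1 ⊗ₜ x)) = lr (b * x) := by
        rw [← LinearMap.map_smul_of_tower, ← smul_mul_assoc, hb, hlr, Algebra.TensorProduct.tmul_mul_tmul, one_mul]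
      simp only [LinearMap.sub_apply, LinearMap.smul_apply, smul_eq_mul, map_sub, map_mul, hΦ, hl, h1, ← h2,
        Algebra.smul_def]
      ring
    have h3 := Submodule.mem_map_of_mem (f := (LinearMap.range Φ).mkQ) (mem_smul_of_apply_mem p hz)
    have hb0 : (LinearMap.range Φ).mkQ (Φ b) = 0 :=
      (Submodule.Quotient.mk_eq_zero _).2 (LinearMap.mem_range_self Φ b)
    rw [Submodule.map_smul'', Submodule.map_top, Submodule.range_mkQ, map_sub, map_smul, hb0, sub_zero] at h3
    exact h3
  obtain ⟨T, hT⟩ := (inferInstance : Module.Finite A (B →ₗ[A] A)).fg_top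
  choose den hden hmem using key
  let v := ∏ φ ∈ T, den φ
  have hv : v ∉ p := fun h => by
    obtain ⟨φ, -, hφ⟩ := (‹p.IsPrime›.prod_mem_iff).1 h
    exact hden _ hφ
  have hQ : ∀ q : Q, v • q ∈ p • (⊤ : Submodule A Q) := fun q => by
    obtain ⟨φ, rfl⟩ := Submodule.Quotient.mk_surjective _ q
    have hφ : φ ∈ Submodule.span A (T : Set (B →ₗ[A] A)) := hT ▸ trivial
    induction hφ using Submodule.span_induction with
    | mem φ hφ =>
      obtain ⟨d, hd⟩ := Finset.dvd_prod_of_mem den hφ
      rw [show v = den φ * d from hd, mul_comm, mul_smul]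
      exact Submodule.smul_mem _ d (hmem φ)
    | zero => simp
    | add φ ψ _ _ hφ hψ => rw [Submodule.Quotient.mk_add, smul_add]; exact Submodule.add_mem _ hφ hψ
    | smul c φ _ hφ => rw [Submodule.Quotient.mk_smul, smul_comm]; exact Submodule.smul_mem _ c hφ
  obtain ⟨χ, hmon, hdeg, hcoef, hann⟩ :=
    LinearMap.exists_monic_and_natDegree_eq_and_coeff_mem_pow_and_aeval_eq_zero A
      (v • (LinearMap.id : Q →ₗ[A] Q)) p (by rintro _ ⟨q, rfl⟩; exact hQ q)
  refine ⟨χ.eval v, fun h => hv ?_, fun p' _ ha => ?_⟩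
  · rw [Polynomial.eval_eq_sum_range, Finset.sum_range_succ, hmon.coeff_natDegree, one_mul] at h
    refine ‹p.IsPrime›.mem_of_pow_mem χ.natDegree ((Ideal.add_mem_iff_right _ ?_).1 h)
    refine Ideal.sum_mem _ fun i hi => Ideal.mul_mem_right _ _ ?_
    exact Ideal.pow_le_self (by rw [Finset.mem_range] at hi; omega) (hcoef i)
  have hkill : ∀ φ : B →ₗ[A] A, ∃ b, χ.eval v • φ = Φ b := fun φ => by
    have h1 : (v • (LinearMap.id : Q →ₗ[A] Q)) = algebraMap A (Module.End A Q) v := by
      ext q; rfl
    rw [h1, Polynomial.aeval_algebraMap_apply_eq_algebraMap_eval] at hann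
    have h2 := LinearMap.congr_fun hann (Submodule.Quotient.mk φ)
    rw [Module.algebraMap_end_apply, LinearMap.zero_apply, ← Submodule.Quotient.mk_smul,
      Submodule.Quotient.mk_eq_zero] at h2
    exact h2.imp fun b hb => hb.symm
  let K := p'.ResidueField
  refine ⟨LinearMap.liftBaseChange K (Algebra.linearMap A K ∘ₗ l), fun ψ => ?_⟩
  obtain ⟨s, hs, φ, hφ⟩ := exists_lift p'
    (ψ.restrictScalars A ∘ₗ (Algebra.TensorProduct.includeRight : B →ₐ[A] p'.Fiber B).toLinearMap)
  obtain ⟨b, hb⟩ := hkill φ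
  have hu : algebraMap A K (χ.eval v * s) ≠ 0 := by
    rw [Ne, Ideal.algebraMap_residueField_eq_zero]
    exact fun hm => (Ideal.IsPrime.mem_or_mem ‹p'.IsPrime› hm).elim ha hs
  refine ⟨(algebraMap A K (χ.eval v * s))⁻¹ ⊗ₜ b, fun x => ?_⟩
  induction x using TensorProduct.induction_on with
  | zero => simp
  | add x y hx hy => simp [map_add, mul_add, hx, hy]
  | tmul c x =>
    have h1 := congrArg (algebraMap A K) (LinearMap.congr_fun hb x)
    simp only [LinearMap.smul_apply, smul_eq_mul, map_mul, hΦ] at h1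
    have h2 : ψ (c ⊗ₜ x) = c * ψ (1 ⊗ₜ x) := by
      rw [← smul_eq_mul c, ← map_smul, TensorProduct.smul_tmul', smul_eq_mul, mul_one]
    rw [h2, Algebra.TensorProduct.tmul_mul_tmul, LinearMap.liftBaseChange_tmul, smul_eq_mul]
    have h4 : algebraMap A K (φ x) = algebraMap A K s * ψ (1 ⊗ₜ x) := (hφ x).trans (Algebra.smul_def _ _)
    rw [h4] at h1
    simp only [LinearMap.coe_comp, Function.comp_apply]
    rw [show Algebra.linearMap A K (l (b * x)) = _ from h1.symm]
    rw [map_mul] at hu ⊢
    have hu1 := left_ne_zero_of_mul hu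
    have hu2 := right_ne_zero_of_mul hu
    field_simp

/-- The local rings of nearby fibres are Gorenstein. -/
theorem exists_gorenstein_fiber (p : Ideal A) [p.IsPrime]
    [LocCoh.IsGorensteinLocalRing (p.Fiber B)] :
    ∃ a ∉ p, ∀ (p' : Ideal A) [p'.IsPrime], a ∉ p' → ∀ (P : Ideal (p'.Fiber B)) [P.IsPrime],
      LocCoh.IsGorensteinLocalRing (Localization.AtPrime P) := by
  obtain ⟨a, ha, h⟩ := exists_hasGen_fiber (B := B) p hasGen_of_gorenstein
  exact ⟨a, ha, fun p' _ hp' P _ => gorenstein_localization_of_hasGen (h p' hp') P⟩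

end Family

end Groth.Agent.CurvOpenLib.GorFrob
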