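import Groth.Agent.CurvOpenLib.Inst
import Groth.Agent.CurvOpenLib.GorFrob
import Groth.Agent.CurvLocusLib.LocP
import Groth.Agent.SmoothReg.Scheme
import Groth.Agent.LC.GorRing
import Groth.Agent.S1353
import Groth.Agent.S3626
import Groth.Agent.S3627

/-!
# The Gorenstein locus of a flat morphism locally of finite presentation is open
-/

set_option autoImplicit false
set_option linter.style.haveILetI false
set_option backward.isDefEq.respectTransparency false
set_option backward.isDefEq.respectTransparency.types false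

universe u

open CategoryTheory CategoryTheory.Limits AlgebraicGeometry TensorProduct

namespace Groth.Agent.CurvOpenLib.Gor

variable {X Y Z : Scheme.{u}}

theorem gorensteinAt_smooth (f : X ⟶ Y) [Smooth f] (x : X) : Dual3.IsGorensteinAt f x := by
  refine ⟨Flat.stalkMap f x, ?_⟩
  haveI : Smooth (f.fiberToSpecResidueField (f x)) :=
    MorphismProperty.pullback_snd (P := @Smooth) f _ inferInstance
  haveI : IsLocallyNoetherian (f.fiber (f x)) := Inst.noeth_fiber f (f x)
  haveI : IsRegularLocalRing ((f.fiber (f x)).presheaf.stalk (f.asFiber x)) :=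
    SmoothReg.isRegularLocalRing_stalk_of_mem_smoothLocus (k := Y.residueField (f x))
      (f.fiberToSpecResidueField (f x)) (by rw [Scheme.Hom.smoothLocus_eq_top]; trivial)
  exact LC.gorenstein_of_isRegularLocalRing (R := (f.fiber (f x)).presheaf.stalk (f.asFiber x))

theorem precomp (e : X ⟶ Y) (g : Y ⟶ Z) [Etale e] [LocallyOfFiniteType g] (x : X) :
    Dual3.IsGorensteinAt (e ≫ g) x ↔ Dual3.IsGorensteinAt g (e x) := by
  have h := Groth.Agent.S3627.result X Y Z e g (Inst.noeth_fiber e) (Inst.noeth_fiber g) (Inst.noeth_fiber (e ≫ g)) x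
  exact ⟨fun hc => (h.2 hc (Flat.stalkMap e x)).2, fun hg => h.1 (gorensteinAt_smooth e x) hg⟩

theorem postcomp (g : X ⟶ Y) (j : Y ⟶ Z) [LocallyOfFiniteType g] [Smooth j] (x : X)
    (hfl : (g.stalkMap x).hom.Flat) :
    Dual3.IsGorensteinAt (g ≫ j) x ↔ Dual3.IsGorensteinAt g x := by
  have h := Groth.Agent.S3627.result X Y Z g j (Inst.noeth_fiber g) (Inst.noeth_fiber j) (Inst.noeth_fiber (g ≫ j)) x
  exact ⟨fun hc => (h.2 hc hfl).1, fun hg => h.1 hg (gorensteinAt_smooth j (g x))⟩

theorem cm_of_gorensteinAt (f : X ⟶ Y) [LocallyOfFiniteType f] (x : X) (h : Dual3.IsGorensteinAt f x) :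
    MoreMor.IsCMAt f x := by
  haveI := h.2
  exact ⟨h.1, LC.isCohenMacaulayLocalRing_of_gorenstein⟩

section Affine

variable (A B : Type u) [CommRing A] [CommRing B] [Algebra A B]

/-- The Gorenstein condition at a point of the spectrum, read on the fibre ring. -/
theorem gorensteinAt_spec_iff [Algebra.FiniteType A B] [Module.Flat A B] (p : Ideal A) [p.IsPrime]
    (P : Spec (CommRingCat.of (p.Fiber B))) :
    Dual3.IsGorensteinAt (Spec.map (CommRingCat.ofHom (algebraMap A B)))
        (Spec.map (CommRingCat.ofHom (S := p.Fiber B) (Algebra.TensorProduct.includeRight : B →ₐ[A] p.Fiber B).toRingHom) P) ↔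
      LocCoh.IsGorensteinLocalRing (Localization.AtPrime P.asIdeal) := by
  let f := Spec.map (CommRingCat.ofHom (algebraMap A B))
  let f' := Spec.map (CommRingCat.ofHom (S := p.Fiber B)
    (Algebra.TensorProduct.includeLeftRingHom : p.ResidueField →+* p.Fiber B))
  haveI : Flat f := Flat.SpecMap_iff.2 (RingHom.flat_algebraMap_iff.2 inferInstance)
  haveI : LocallyOfFiniteType f :=
    (HasRingHomProperty.Spec_iff (P := @LocallyOfFiniteType)).2 (RingHom.finiteType_algebraMap.2 inferInstance)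
  have sq : IsPullback (Spec.map (CommRingCat.ofHom (S := p.Fiber B) (Algebra.TensorProduct.includeRight : B →ₐ[A] p.Fiber B).toRingHom))
      f' f (Spec.map (CommRingCat.ofHom (algebraMap A p.ResidueField))) :=
    (isPullback_SpecMap_of_isPushout _ _ _ _ (CommRingCat.isPushout_tensorProduct A p.ResidueField B)).flip
  rw [← Groth.Agent.S3626.result _ _ _ _ f _ f' _ sq P]
  obtain ⟨hfl, ⟨e⟩⟩ := CurvLocusLib.fibre_of_etale_base (k := p.ResidueField) f' (𝟙 _) P
  let e' := (Spec.stalkIso (CommRingCat.of (p.Fiber B)) P).commRingCatIsoToRingEquiv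
  exact ⟨fun h => (Dual3Lib.isGor_congr (e'.symm.trans e)).2 h.2,
    fun h => ⟨hfl, (Dual3Lib.isGor_congr (e'.symm.trans e)).1 h⟩⟩

theorem exists_fiber_point (p : Ideal A) [p.IsPrime] (q : Spec (CommRingCat.of B))
    (hq : q.asIdeal.comap (algebraMap A B) = p) :
    ∃ P : Spec (CommRingCat.of (p.Fiber B)),
      Spec.map (CommRingCat.ofHom (S := p.Fiber B) (Algebra.TensorProduct.includeRight : B →ₐ[A] p.Fiber B).toRingHom) P = q := by
  let E := PrimeSpectrum.preimageEquivFiber A B ⟨p, ‹_›⟩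
  refine ⟨E ⟨q, PrimeSpectrum.ext hq⟩, ?_⟩
  exact congrArg Subtype.val (E.symm_apply_apply ⟨q, PrimeSpectrum.ext hq⟩)

/-- For finite flat algebras of finite presentation the Gorenstein locus is a neighbourhood of a point alone in
its fibre. -/
theorem exists_nhd_affine [Algebra.FinitePresentation A B] [Module.Finite A B] [Module.Flat A B]
    (q : Spec (CommRingCat.of B))
    (huniq : ∀ w, Spec.map (CommRingCat.ofHom (algebraMap A B)) w = Spec.map (CommRingCat.ofHom (algebraMap A B)) q → w = q)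
    (h : Dual3.IsGorensteinAt (Spec.map (CommRingCat.ofHom (algebraMap A B))) q) :
    ∃ U : (Spec (CommRingCat.of B)).Opens, q ∈ U ∧
      ∀ z ∈ U, Dual3.IsGorensteinAt (Spec.map (CommRingCat.ofHom (algebraMap A B))) z := by
  haveI : Module.FinitePresentation A B := Module.FinitePresentation.of_finite_of_finitePresentation A B
  haveI : Module.Projective A B := Module.Flat.projective_of_finitePresentation
  let p := q.asIdeal.comap (algebraMap A B)
  haveI : p.IsPrime := inferInstance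
  let E := PrimeSpectrum.preimageEquivFiber A B ⟨p, inferInstance⟩
  haveI : Subsingleton (PrimeSpectrum (p.Fiber B)) := by
    haveI : Subsingleton (PrimeSpectrum.comap (algebraMap A B) ⁻¹' {⟨p, inferInstance⟩}) :=
      ⟨fun a b => Subtype.ext ((huniq a.1 a.2).trans (huniq b.1 b.2).symm)⟩
    exact E.symm.subsingleton
  obtain ⟨P, hP⟩ := exists_fiber_point A B p q rfl
  haveI : Nonempty (PrimeSpectrum (p.Fiber B)) := ⟨P⟩
  haveI : Nontrivial (p.Fiber B) := PrimeSpectrum.nonempty_iff_nontrivial.1 inferInstance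
  haveI : IsLocalRing (p.Fiber B) := .of_unique_max_ideal <| by
    obtain ⟨M, hM⟩ := Ideal.exists_maximal (p.Fiber B)
    exact ⟨M, hM, fun N hN => congrArg PrimeSpectrum.asIdeal
      (Subsingleton.elim (⟨N, hN.isPrime⟩ : PrimeSpectrum (p.Fiber B)) ⟨M, hM.isPrime⟩)⟩
  haveI : LocCoh.IsGorensteinLocalRing (p.Fiber B) := by
    have hG := (gorensteinAt_spec_iff A B p P).1 (hP.symm ▸ h)
    have hunit : ∀ x ∈ P.asIdeal.primeCompl, IsUnit x := fun x hx => by
      by_contra hne
      obtain ⟨M, hM, hxM⟩ := exists_max_ideal_of_mem_nonunits hne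
      exact hx (congrArg PrimeSpectrum.asIdeal (@Subsingleton.elim (PrimeSpectrum (p.Fiber B)) inferInstance P ⟨M, hM.isPrime⟩) ▸ hxM)
    exact (Dual3Lib.isGor_congr
      (IsLocalization.atUnits (p.Fiber B) P.asIdeal.primeCompl (S := Localization.AtPrime P.asIdeal) hunit).toRingEquiv).2 hG
  obtain ⟨a, ha, hgor⟩ := GorFrob.exists_gorenstein_fiber (B := B) p
  refine ⟨Spec.map (CommRingCat.ofHom (algebraMap A B)) ⁻¹ᵁ PrimeSpectrum.basicOpen a, ha, fun z hz => ?_⟩
  obtain ⟨P', hP'⟩ := exists_fiber_point A B (z.asIdeal.comap (algebraMap A B)) z rfl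
  rw [← hP']
  exact (gorensteinAt_spec_iff A B _ P').2 (hgor _ hz P'.asIdeal)

end Affine

/-- The finite flat case. -/
theorem exists_nhd_finite (f : X ⟶ Y) [IsFinite f] [Flat f] [LocallyOfFinitePresentation f] (x : X)
    (huniq : ∀ w, f w = f x → w = x) (h : Dual3.IsGorensteinAt f x) :
    ∃ U : X.Opens, x ∈ U ∧ ∀ z ∈ U, Dual3.IsGorensteinAt f z := by
  obtain ⟨W, hW, hxW, -⟩ := exists_isAffineOpen_mem_and_subset (U := (⊤ : Y.Opens)) (x := f x) trivial
  have hU : IsAffineOpen (f ⁻¹ᵁ W) := hW.preimage f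
  letI := (f.appLE W (f ⁻¹ᵁ W) le_rfl).hom.toAlgebra
  let A := Γ(Y, W)
  let B := Γ(X, f ⁻¹ᵁ W)
  let φ := Spec.map (CommRingCat.ofHom (algebraMap A B))
  have hsq : hU.fromSpec ≫ f = φ ≫ hW.fromSpec := (hW.SpecMap_appLE_fromSpec f hU le_rfl).symm
  haveI : Algebra.FinitePresentation A B := f.finitePresentation_appLE hW hU le_rfl
  haveI : Module.Flat A B :=
    CMOpen5.flat_of_flat_stalks f hW hU hsq fun z _ => Flat.stalkMap f z
  haveI : Module.Finite A B := by
    have := IsFinite.finite_app (f := f) W hW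
    rw [Scheme.Hom.app_eq_appLE] at this
    exact this
  have key : ∀ z, Dual3.IsGorensteinAt φ z ↔ Dual3.IsGorensteinAt f (hU.fromSpec z) := fun z => by
    haveI : LocallyOfFinitePresentation φ :=
      (HasRingHomProperty.Spec_iff (P := @LocallyOfFinitePresentation)).2 (RingHom.finitePresentation_algebraMap.2 inferInstance)
    haveI : Flat φ := Flat.SpecMap_iff.2 (RingHom.flat_algebraMap_iff.2 inferInstance)
    rw [← precomp hU.fromSpec f z, hsq, postcomp φ hW.fromSpec z (Flat.stalkMap φ z)]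
  obtain ⟨q, rfl⟩ : x ∈ Set.range hU.fromSpec := by rw [hU.range_fromSpec]; exact hxW
  obtain ⟨U, hqU, hU'⟩ := exists_nhd_affine A B q (fun w hw => hU.fromSpec.isOpenEmbedding.injective (huniq _ (by
    rw [← Scheme.Hom.comp_apply, ← Scheme.Hom.comp_apply, hsq, Scheme.Hom.comp_apply, Scheme.Hom.comp_apply]
    exact congrArg _ hw))) ((key q).2 h)
  exact ⟨hU.fromSpec ''ᵁ U, ⟨q, hqU, rfl⟩, by rintro _ ⟨z, hz, rfl⟩; exact (key z).1 (hU' z hz)⟩

/-- The quasi-finite flat case. -/
theorem exists_nhd_qfin (f : X ⟶ Y) [LocallyQuasiFinite f] [Flat f] [LocallyOfFinitePresentation f] (x : X)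
    (h : Dual3.IsGorensteinAt f x) : ∃ U : X.Opens, x ∈ U ∧ ∀ z ∈ U, Dual3.IsGorensteinAt f z := by
  obtain ⟨U, g, u, hg, V, v, hv, hfin, hvu, huniq, hvx, -⟩ := Groth.Agent.S1353.result f x (f.quasiFiniteAt x)
  haveI : Etale g := hg.1
  haveI : Etale (pullback.fst f g) := MorphismProperty.pullback_fst (P := @Etale) f g inferInstance
  haveI : Flat (pullback.snd f g) := MorphismProperty.pullback_snd (P := @Flat) f g inferInstance
  haveI : LocallyOfFinitePresentation (pullback.snd f g) :=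
    MorphismProperty.pullback_snd (P := @LocallyOfFinitePresentation) f g inferInstance
  let φ := V.ι ≫ pullback.snd f g
  haveI : IsFinite φ := hfin
  have key : ∀ z : V, Dual3.IsGorensteinAt φ z ↔ Dual3.IsGorensteinAt f (pullback.fst f g (V.ι z)) := fun z => by
    rw [precomp V.ι (pullback.snd f g) z,
      Groth.Agent.S3626.result _ _ _ _ f g (pullback.snd f g) (pullback.fst f g) (IsPullback.of_hasPullback f g) (V.ι z)]
  obtain ⟨W, hvW, hW⟩ := exists_nhd_finite φ ⟨v, hv⟩ (fun w hw => Subtype.ext (huniq _ w.2 (by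
    simp only [φ, Scheme.Hom.comp_apply] at hw
    exact hw.trans hvu))) ((key ⟨v, hv⟩).2 (by rw [show pullback.fst f g (V.ι ⟨v, hv⟩) = x from hvx]; exact h))
  refine ⟨⟨_, (V.ι ≫ pullback.fst f g).isOpenMap _ W.2⟩, ⟨⟨v, hv⟩, hvW, ?_⟩, ?_⟩
  · rw [Scheme.Hom.comp_apply]; exact hvx
  · rintro _ ⟨z, hz, rfl⟩
    exact (key z).1 (hW z hz)

/-- The Gorenstein locus is open. -/
theorem isOpen_gorensteinAt (f : X ⟶ Y) [LocallyOfFinitePresentation f] :
    IsOpen {x | Dual3.IsGorensteinAt f x} := by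
  rw [isOpen_iff_forall_mem_open]
  intro x hx
  obtain ⟨n, U, hxU, g, hg, hqf, hfl⟩ := (CMOpen5.isCMAt_iff f x).1 (cm_of_gorensteinAt f x hx)
  let π := 𝔸(ULift.{u} (Fin n); Y) ↘ Y
  haveI : Smooth π := Groth.Agent.S12182.smooth_affineSpace _ Y
  haveI : LocallyOfFinitePresentation (g ≫ π) := by rw [hg]; infer_instance
  haveI : LocallyOfFinitePresentation g := AlgSpPts.locallyOfFinitePresentation_of_comp g π
  let W : (U : Scheme.{u}).Opens := ⟨_, FlatLocus.isOpen_flat_locus g⟩
  haveI : Flat (W.ι ≫ g) := (Flat.iff_flat_stalkMap _).2 fun z => by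
    rw [Scheme.Hom.stalkMap_comp]
    exact (FlatLocus.flat_comp_isIso _ _).2 z.2
  have key : ∀ z : W, Dual3.IsGorensteinAt (W.ι ≫ g) z ↔ Dual3.IsGorensteinAt f (U.ι (W.ι z)) := fun z => by
    rw [precomp W.ι g z, ← postcomp g π (W.ι z) z.2, hg, precomp U.ι f (W.ι z)]
  obtain ⟨T, hT, hTg⟩ := exists_nhd_qfin (W.ι ≫ g) ⟨⟨x, hxU⟩, hfl⟩ ((key ⟨⟨x, hxU⟩, hfl⟩).2 hx)
  refine ⟨_, ?_, ((W.ι ≫ U.ι).isOpenEmbedding.isOpenMap _ T.2), ⟨⟨⟨x, hxU⟩, hfl⟩, hT, rfl⟩⟩
  rintro _ ⟨z, hz, rfl⟩
  exact (key z).1 (hTg z hz)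

/-- The Gorenstein condition as a pointwise property. -/
theorem ptProp_gor : GenLocus.PtProp.{u} (fun {_ _} h x => Dual3.IsGorensteinAt h x) where
  precomp e g _ _ _ x := precomp e g x
  postcomp g j _ _ _ x := postcomp g j x (Flat.stalkMap g x)
  isOpen f _ _ := isOpen_gorensteinAt f
  baseChange {X Y X' Y' p q f g} _ _ _ _ sq x' := Groth.Agent.S3626.result X Y X' Y' f g q p sq x'

end Groth.Agent.CurvOpenLib.Gor
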