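import Groth.Agent.CurvOpenLib.Exist
import Groth.Agent.CurvOpenLib.GorOpen

/-!
# The projective line is a Gorenstein family of curves
-/

set_option autoImplicit false
set_option backward.isDefEq.respectTransparency false
set_option backward.isDefEq.respectTransparency.types false

universe u

open CategoryTheory CategoryTheory.Limits AlgebraicGeometry AlgSp Groth.Agent.AlgSpLib

namespace Groth.Agent.CurvOpenLib

namespace P1

variable {S : Scheme.{u}} (Ω : Type u) [Field Ω] (t : Spec (CommRingCat.of Ω) ⟶ S)

theorem locP_gor : LocP (fun _ _ g => ∀ x, (g.stalkMap x).hom.Flat ∧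
    LocCoh.IsGorensteinLocalRing ((g.fiber (g x)).presheaf.stalk (g.asFiber x))) (curve Ω t).obj.f := by
  have h := isCurveFam Ω t
  refine (GenLocus.locP_iff Gor.ptProp_gor (fun _ _ _ => Iff.rfl) h.1 (IsAlgSpace.yon_obj _) h.2.1
    h.2.2.2.1.1).2 fun x => at_yon_map (Q := fun {_ _} g u => Dual3.IsGorensteinAt g u) _ (fun u => ?_) x
  haveI : Smooth (pt Ω t).fOver.left := smooth Ω t
  exact Gor.gorensteinAt_smooth _ u

end P1

end Groth.Agent.CurvOpenLib
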