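import Groth.Agent.AlgSpDec.BaseChangeCharts
import Groth.Agent.AlgSpLib.LargestOpen
import Groth.Agent.AlgSpPts.OpenSub
import Groth.Agent.AlgSpPts.Sep
import Mathlib.AlgebraicGeometry.Morphisms.Flat

/-!
Loci in the points of a space cut out by a pointwise property of flat morphisms locally of finite presentation
which is etale local on source and target and commutes with base change.
-/

set_option autoImplicit false
set_option backward.isDefEq.respectTransparency false
set_option backward.isDefEq.respectTransparency.types false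

universe u

open CategoryTheory CategoryTheory.Limits AlgebraicGeometry AlgSp Groth.Agent.AlgSpLib Groth.Agent.AlgSpPts Groth.Agent.AlgSpDec

namespace Groth.Agent.CurvOpenLib.GenLocus

/-- An etale cancellation: flatness. -/
theorem flat_of_comp_etale {X Y Z : Scheme.{u}} (f : X ⟶ Y) (g : Y ⟶ Z) [Etale g] [Flat (f ≫ g)] : Flat f := by
  haveI : MorphismProperty.HasOfPostcompProperty @Flat @Etale :=
    MorphismProperty.hasOfPostcompProperty_iff_le_diagonal.mpr fun _ _ g hg => by
      haveI : Etale g := hg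
      exact (inferInstance : Flat (pullback.diagonal g))
  exact MorphismProperty.of_postcomp (W := @Flat) (W' := @Etale) f g inferInstance inferInstance

/-- A pointwise property of flat morphisms locally of finite presentation. -/
structure PtProp (Q : ∀ {X Y : Scheme.{u}}, (X ⟶ Y) → X → Prop) : Prop where
  precomp : ∀ {X Y Z : Scheme.{u}} (e : X ⟶ Y) (g : Y ⟶ Z) [Etale e] [Flat g] [LocallyOfFinitePresentation g] (x : X),
    Q (e ≫ g) x ↔ Q g (e x)
  postcomp : ∀ {X Y Z : Scheme.{u}} (g : X ⟶ Y) (j : Y ⟶ Z) [Flat g] [LocallyOfFinitePresentation g] [Etale j] (x : X),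
    Q (g ≫ j) x ↔ Q g x
  baseChange : ∀ {X Y X' Y' : Scheme.{u}} {p : X' ⟶ X} {q : X' ⟶ Y'} {f : X ⟶ Y} {g : Y' ⟶ Y}
    [Flat f] [LocallyOfFinitePresentation f] [Flat q] [LocallyOfFinitePresentation q], IsPullback p q f g → ∀ x', Q q x' ↔ Q f (p x')
  isOpen : ∀ {X Y : Scheme.{u}} (f : X ⟶ Y) [Flat f] [LocallyOfFinitePresentation f], IsOpen {x | Q f x}

variable {Q : ∀ {X Y : Scheme.{u}}, (X ⟶ Y) → X → Prop}
variable {S : Scheme.{u}} {F G : Sp S} {f : F ⟶ G}

/-- The property at a point of a morphism of spaces. -/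
abbrev At (Q : ∀ {X Y : Scheme.{u}}, (X ⟶ Y) → X → Prop) (f : F ⟶ G) (x : Points F) : Prop :=
  HasAtMor (fun _ _ h u => Q h u) f x

theorem congr_charts (hQ : PtProp @Q) (hff : LocP @Flat f) (hf : LocP @LocallyOfFinitePresentation f) {U V U' V' : Over S}
    {a : (yon S).obj U ⟶ F} {b : (yon S).obj V ⟶ G} {h : U ⟶ V} {u : ↥U.left}
    {a' : (yon S).obj U' ⟶ F} {b' : (yon S).obj V' ⟶ G} {h' : U' ⟶ V'} {u' : ↥U'.left}
    (ha : RepWith @Etale a) (hb : RepWith @Etale b) (w : a ≫ f = (yon S).map h ≫ b)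
    (ha' : RepWith @Etale a') (hb' : RepWith @Etale b') (w' : a' ≫ f = (yon S).map h' ≫ b')
    (he : Points.ofPt a u = Points.ofPt a' u') : Q h.left u ↔ Q h'.left u' := by
  have : Flat h.left := hff a b h ha hb w
  have : LocallyOfFinitePresentation h.left := hf a b h ha hb w
  have : Flat h'.left := hff a' b' h' ha' hb' w'
  have : LocallyOfFinitePresentation h'.left := hf a' b' h' ha' hb' w'
  let pa : ha.rep.pullback a' ⟶ U := ha.rep.fst' a'
  let pa' : ha.rep.pullback a' ⟶ U' := ha.rep.snd a'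
  let wb : hb.rep.pullback b' ⟶ V := hb.rep.fst' b'
  let wb' : hb.rep.pullback b' ⟶ V' := hb.rep.snd b'
  have sqA := ha.rep.isPullback' a'
  have sqB := hb.rep.isPullback' b'
  obtain ⟨z, hz, hz'⟩ := exists_ofPt_of_eq sqA he
  haveI : Etale pa'.left := ha.property_snd a'
  haveI : Etale pa.left := ha'.property _ _ _ sqA.flip
  haveI : Etale wb'.left := hb.property_snd b'
  haveI : Etale wb.left := hb'.property _ _ _ sqB.flip
  have hc : (yon S).map (pa ≫ h) ≫ b = (yon S).map (pa' ≫ h') ≫ b' := by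
    rw [(yon S).map_comp pa h, (yon S).map_comp pa' h', Category.assoc, Category.assoc, ← w, ← w',
      ← Category.assoc, sqA.w, Category.assoc]
  obtain ⟨k, hk⟩ := (yon S).map_surjective (sqB.lift _ _ hc)
  have hk₁ : k ≫ wb = pa ≫ h := (yon S).map_injective (by
    rw [(yon S).map_comp k wb, hk]; exact sqB.lift_fst _ _ _)
  have hk₂ : k ≫ wb' = pa' ≫ h' := (yon S).map_injective (by
    rw [(yon S).map_comp k wb', hk]; exact sqB.lift_snd _ _ _)
  haveI : Flat (k.left ≫ wb.left) := by
    rw [← Over.comp_left, hk₁, Over.comp_left]; infer_instance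
  haveI : LocallyOfFinitePresentation (k.left ≫ wb.left) := by
    rw [← Over.comp_left, hk₁, Over.comp_left]; infer_instance
  haveI : Flat k.left := flat_of_comp_etale k.left wb.left
  haveI : LocallyOfFinitePresentation k.left := AlgSpPts.locallyOfFinitePresentation_of_comp k.left wb.left
  rw [← hz, ← hz', ← hQ.precomp pa.left h.left z, ← hQ.precomp pa'.left h'.left z,
    ← Over.comp_left, ← Over.comp_left, ← hk₁, ← hk₂, Over.comp_left, Over.comp_left,
    hQ.postcomp, hQ.postcomp]

theorem at_iff_chart (hQ : PtProp @Q) (hff : LocP @Flat f) (hf : LocP @LocallyOfFinitePresentation f) {U V : Over S}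
    {a : (yon S).obj U ⟶ F} {b : (yon S).obj V ⟶ G} {h : U ⟶ V} (ha : RepWith @Etale a)
    (hb : RepWith @Etale b) (w : a ≫ f = (yon S).map h ≫ b) (u : ↥U.left) :
    At @Q f (Points.ofPt a u) ↔ Q h.left u := by
  refine ⟨?_, fun hu => ⟨U, V, a, b, h, u, ha, hb, w, rfl, hu⟩⟩
  rintro ⟨U', V', a', b', h', u', ha', hb', w', hx, hu'⟩
  exact (congr_charts hQ hff hf ha hb w ha' hb' w' hx.symm).2 hu'

theorem isOpen_at (hQ : PtProp @Q) (hff : LocP @Flat f) (hf : LocP @LocallyOfFinitePresentation f) :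
    IsOpen {x : Points F | At @Q f x} := by
  rw [isOpen_iff_forall_mem_open]
  rintro x ⟨U, V, a, b, h, u, ha, hb, w, hx, hu⟩
  haveI : Flat h.left := hff a b h ha hb w
  haveI : LocallyOfFinitePresentation h.left := hf a b h ha hb w
  refine ⟨Points.ofPt a '' {u' | Q h.left u'}, ?_, isOpenMap_ofPt ha _ (hQ.isOpen h.left), u, hu, hx⟩
  rintro _ ⟨u', hu', rfl⟩
  exact ⟨U, V, a, b, h, u', ha, hb, w, rfl, hu'⟩

theorem locP_iff (hQ : PtProp @Q) {P : MorphismProperty Scheme.{u}}
    (hP : ∀ {X Y : Scheme.{u}} (h : X ⟶ Y) [Flat h] [LocallyOfFinitePresentation h], P h ↔ ∀ x, Q h x)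
    (hF : IsAlgSpace F) (hG : IsAlgSpace G) (hff : LocP @Flat f) (hf : LocP @LocallyOfFinitePresentation f) :
    LocP P f ↔ ∀ x : Points F, At @Q f x := by
  constructor
  · intro hp x
    obtain ⟨U, V, a, b, h, ha, ha', hb, -, w⟩ := exists_chart hF hG f
    obtain ⟨u, rfl⟩ := surjective_ofPt ha' x
    haveI : Flat h.left := hff a b h ha hb w
    haveI : LocallyOfFinitePresentation h.left := hf a b h ha hb w
    exact (at_iff_chart hQ hff hf ha hb w u).2 ((hP h.left).1 (hp a b h ha hb w) u)
  · intro H U V a b h ha hb w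
    haveI : Flat h.left := hff a b h ha hb w
    haveI : LocallyOfFinitePresentation h.left := hf a b h ha hb w
    exact (hP h.left).2 fun u => (at_iff_chart hQ hff hf ha hb w u).1 (H _)

theorem at_baseChange_iff (hQ : PtProp @Q) {F' G' : Sp S} {g : G' ⟶ G} {fst : F' ⟶ F} {snd : F' ⟶ G'}
    (sq : IsPullback fst snd f g) (hF : IsAlgSpace F) (hG : IsAlgSpace G) (hG' : IsAlgSpace G')
    (hff : LocP @Flat f) (hf : LocP @LocallyOfFinitePresentation f) (x' : Points F') :
    At @Q snd x' ↔ At @Q f (Points.map fst x') := by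
  obtain ⟨U, V, W, a, b, c, h, h₁, a', ha, hb, hc, w, ha', hs', w', w''⟩ :=
    exists_baseChange_charts sq hF hG hG'
  obtain ⟨z, rfl⟩ := surjective_ofPt hs' x'
  have hx : Points.map fst (Points.ofPt a' z) = Points.ofPt a ((pullback.fst h h₁).left z) := by
    rw [Points.map_ofPt, w'', ofPt_comp]
  rw [hx, at_iff_chart hQ (locP_of_isPullback sq hF hG hG' hff) (locP_of_isPullback sq hF hG hG' hf) ha' hc w' z, at_iff_chart hQ hff hf ha hb w]
  haveI hl : LocallyOfFinitePresentation h.left := hf a b h ha hb w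
  haveI hl' : Flat h.left := hff a b h ha hb w
  haveI : LocallyOfFinitePresentation ((Over.forget S).map h) := hl
  haveI : Flat ((Over.forget S).map h) := hl'
  have sq' := (IsPullback.of_hasPullback h h₁).map (Over.forget S)
  haveI : LocallyOfFinitePresentation ((Over.forget S).map (pullback.snd h h₁)) :=
    MorphismProperty.of_isPullback (P := @LocallyOfFinitePresentation) sq' hl
  haveI : Flat ((Over.forget S).map (pullback.snd h h₁)) :=
    MorphismProperty.of_isPullback (P := @Flat) sq' hl'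
  exact hQ.baseChange sq' z

end Groth.Agent.CurvOpenLib.GenLocus
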