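import Groth.Agent.CurvOpenLib.OpenAlg
import Groth.Agent.CurvOpenLib.GenLocus
import Groth.Prelude.Def_StCurv2

/-!
# Open substacks of the stack of curves cut out by pointwise properties
-/

set_option autoImplicit false
set_option backward.isDefEq.respectTransparency false
set_option backward.isDefEq.respectTransparency.types false

universe u

open CategoryTheory CategoryTheory.Limits AlgebraicGeometry AlgSp
open Groth.Agent.CurvOpenLib.GenLocus

namespace Groth.Agent.CurvOpenLib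

variable {S : Scheme.{u}} {n : ℕ}

/-- The bad points of a family: the complement of the locus of a pointwise property. -/
def badSet (Q : ∀ {X Y : Scheme.{u}}, (X ⟶ Y) → X → Prop) (A : CurvSt.SpFamObj S n) : Set (Points A.X) :=
  {x | ¬ At @Q A.f x}

/-- The open locus of the base over which all points are good. -/
def goodBase {Q : ∀ {X Y : Scheme.{u}}, (X ⟶ Y) → X → Prop} (hQ : GenLocus.PtProp @Q)
    (A : (CurvSt.Curves S n).obj) : A.obj.base.left.Opens :=
  ⟨(Points.ofScheme A.obj.base ⁻¹' (Points.map A.obj.f '' badSet @Q A.obj))ᶜ, by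
    have h := A.property
    have hc : IsClosed (badSet @Q A.obj) :=
      isClosed_compl_iff.mpr (GenLocus.isOpen_at hQ h.2.1 h.2.2.2.1.1)
    have hcl : IsClosedMap (Points.map A.obj.f) := by
      refine h.2.2.1.2.2 (IsAlgSpace.yon_obj _) (𝟙 _) (𝟙 _) A.obj.f ?_
      exact IsPullback.of_horiz_isIso ⟨by rw [Category.id_comp, Category.comp_id]⟩
    have hco : Continuous (Points.ofScheme A.obj.base) := (Points.schemeHomeo A.obj.base).continuous
    exact ((hcl _ hc).preimage hco).isOpen_compl⟩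

theorem at_top {Q : ∀ {X Y : Scheme.{u}}, (X ⟶ Y) → X → Prop} (hQ : GenLocus.PtProp @Q)
    {B A : (CurvSt.Curves S n).obj} (φ : B ⟶ A) (z : Points B.obj.X) :
    At @Q B.obj.f z ↔ At @Q A.obj.f (Points.map φ.hom.top z) :=
  GenLocus.at_baseChange_iff hQ φ.hom.cart A.property.1 (IsAlgSpace.yon_obj _) (IsAlgSpace.yon_obj _)
    A.property.2.1 A.property.2.2.2.1.1 z

theorem forall_at_iff_range {Q : ∀ {X Y : Scheme.{u}}, (X ⟶ Y) → X → Prop} (hQ : GenLocus.PtProp @Q)
    {B A : (CurvSt.Curves S n).obj} (φ : B ⟶ A) :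
    (∀ z, At @Q B.obj.f z) ↔ Set.range φ.hom.base.left ⊆ (goodBase hQ A : Set A.obj.base.left) := by
  constructor
  · rintro H _ ⟨t, rfl⟩ ⟨x, hx, hxt⟩
    obtain ⟨z, hz, -⟩ := Groth.Agent.AlgSpLib.exists_point_of_isPullback φ.hom.cart (x := x)
      (y := Points.ofScheme B.obj.base t) (hxt.trans (Points.map_yon_map_apply φ.hom.base t).symm)
    exact hx (hz ▸ (at_top hQ φ z).1 (H z))
  · intro H z
    by_contra hz
    let t := Points.toScheme B.obj.base (Points.map B.obj.f z)
    refine H ⟨t, rfl⟩ ⟨Points.map φ.hom.top z, fun h => hz ((at_top hQ φ z).2 h), ?_⟩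
    have e : Points.map ((yon S).map φ.hom.base) (Points.ofScheme B.obj.base t) =
        Points.ofScheme A.obj.base (φ.hom.base.left t) := Points.map_yon_map_apply φ.hom.base t
    refine Eq.trans ?_ e
    rw [Points.ofScheme_toScheme, ← Points.map_comp, ← Points.map_comp, φ.hom.cart.w]

/-- A predicate on curve families equivalent to a pointwise property at all points has an open locus. -/
def locusData {Q : ∀ {X Y : Scheme.{u}}, (X ⟶ Y) → X → Prop} (hQ : GenLocus.PtProp @Q)
    (R : (CurvSt.Curves S n).obj → Prop) (hR : ∀ A, R A ↔ ∀ z, At @Q A.obj.f z) :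
    LocusData R where
  V A := goodBase hQ A
  spec _ _ φ := (hR _).trans (forall_at_iff_range hQ φ)

theorem isOpenSubstack_of_ptProp {Q : ∀ {X Y : Scheme.{u}}, (X ⟶ Y) → X → Prop} (hQ : GenLocus.PtProp @Q)
    (R : (CurvSt.Curves S n).obj → Prop) (hR : ∀ A, R A ↔ ∀ z, At @Q A.obj.f z)
    (hC : AlgSt.IsAlgStack Scheme.fppfPrecoverage (CurvSt.Curves S n)) :
    AlgSt.IsOpenSubstack (CurvSt.Curves S n) R Scheme.fppfPrecoverage :=
  (locusData hQ R hR).isOpenSubstack (jointSurj_fppf S) hC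

theorem isOpenSubstack_locP {Q : ∀ {X Y : Scheme.{u}}, (X ⟶ Y) → X → Prop} (hQ : GenLocus.PtProp @Q)
    {P : MorphismProperty Scheme.{u}}
    (hP : ∀ {X Y : Scheme.{u}} (h : X ⟶ Y) [Flat h] [LocallyOfFinitePresentation h], P h ↔ ∀ x, Q h x)
    (hC : AlgSt.IsAlgStack Scheme.fppfPrecoverage (CurvSt.Curves S n)) :
    AlgSt.IsOpenSubstack (CurvSt.Curves S n) (fun A => LocP P A.obj.f) Scheme.fppfPrecoverage :=
  isOpenSubstack_of_ptProp hQ _ (fun A => GenLocus.locP_iff hQ hP A.property.1 (IsAlgSpace.yon_obj _)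
    A.property.2.1 A.property.2.2.2.1.1) hC

theorem locP_and_hasAt_iff {Q : ∀ {X Y : Scheme.{u}}, (X ⟶ Y) → X → Prop} (hQ : GenLocus.PtProp @Q)
    {P : MorphismProperty Scheme.{u}}
    (hP : ∀ {X Y : Scheme.{u}} (h : X ⟶ Y) [Flat h] [LocallyOfFinitePresentation h], P h ↔ ∀ x, Q h x)
    {D : ∀ {X Y : Scheme.{u}}, (X ⟶ Y) → X → Prop} (A : (CurvSt.Curves S n).obj) :
    (LocP P A.obj.f ∧ ∀ z, HasAtMor (fun _ _ h u => D h u) A.obj.f z) ↔
      ∀ z, At (fun {_ _} h u => Q h u ∧ D h u) A.obj.f z := by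
  have e := GenLocus.locP_iff hQ hP A.property.1 (IsAlgSpace.yon_obj A.obj.base) A.property.2.1
    A.property.2.2.2.1.1
  constructor
  · rintro ⟨hp, hd⟩ z
    obtain ⟨U, V, a, b, h, u, ha, hb, w, hz, hu⟩ := hd z
    haveI : Flat h.left := A.property.2.1 a b h ha hb w
    haveI : LocallyOfFinitePresentation h.left := A.property.2.2.2.1.1 a b h ha hb w
    exact ⟨U, V, a, b, h, u, ha, hb, w, hz, (hP h.left).1 (hp a b h ha hb w) u, hu⟩
  · intro H
    exact ⟨e.2 fun z => by
      obtain ⟨U, V, a, b, h, u, ha, hb, w, hz, hu, -⟩ := H z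
      exact ⟨U, V, a, b, h, u, ha, hb, w, hz, hu⟩, fun z => by
      obtain ⟨U, V, a, b, h, u, ha, hb, w, hz, -, hu⟩ := H z
      exact ⟨U, V, a, b, h, u, ha, hb, w, hz, hu⟩⟩

end Groth.Agent.CurvOpenLib
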