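import Groth.Agent.CurvOpenLib.Fam
import Groth.Agent.CurvLocusLib.GeomFib
import Groth.Agent.AlgSpDec.SmoothLocDim
import Groth.Agent.AlgSpLib.EtLocalInst
import Groth.Agent.CMOpen5.Affine
import Groth.Agent.S1342
import Groth.Agent.S2155
import Groth.Agent.S4961
import Groth.Agent.S9766
import Groth.Agent.S9767
import Groth.Agent.S12182
import Groth.Agent.FibDim.RelDim

/-!
# Pointwise properties: smooth and Cohen-Macaulay, with relative dimension one
-/

set_option autoImplicit false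
set_option linter.style.haveILetI false
set_option backward.isDefEq.respectTransparency false
set_option backward.isDefEq.respectTransparency.types false

universe u

open CategoryTheory CategoryTheory.Limits AlgebraicGeometry AlgSp Groth.Agent.AlgSpLib

namespace Groth.Agent.CurvOpenLib.Inst

variable {X Y Z : Scheme.{u}}

/-- `P` holds on a neighbourhood of `x`. -/
def Loc (P : MorphismProperty Scheme.{u}) (f : X ⟶ Y) (x : X) : Prop :=
  ∃ U : X.Opens, x ∈ U ∧ P (U.ι ≫ f)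

theorem loc_precomp (P : MorphismProperty Scheme.{u}) [IsEtLocal P] (e : X ⟶ Y) (g : Y ⟶ Z) [Etale e] (x : X) :
    Loc P (e ≫ g) x ↔ Loc P g (e x) := by
  constructor
  · rintro ⟨U, hx, hU⟩
    let V : Y.Opens := ⟨_, e.isOpenMap _ U.2⟩
    have hle : U ≤ e ⁻¹ᵁ V := fun z hz => ⟨z, hz, rfl⟩
    refine ⟨V, ⟨x, hx, rfl⟩, ?_⟩
    have : Surjective (e.resLE V U hle) := ⟨by
      rintro ⟨_, z, hz, rfl⟩
      refine ⟨⟨z, hz⟩, Subtype.ext ?_⟩
      exact ((Scheme.Hom.comp_apply (e.resLE V U hle) V.ι (⟨z, hz⟩ : U)).symm.trans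
        ((congrArg (fun k : Scheme.Opens.toScheme U ⟶ Y => k (⟨z, hz⟩ : U)) (e.resLE_comp_ι hle)).trans
          (Scheme.Hom.comp_apply U.ι e (⟨z, hz⟩ : U))) :)⟩
    refine IsEtLocal.of_precomp (e.resLE V U hle) (V.ι ≫ g) inferInstance this ?_
    rwa [Scheme.Hom.resLE_comp_ι_assoc]
  · rintro ⟨V, hx, hV⟩
    refine ⟨e ⁻¹ᵁ V, hx, ?_⟩
    rw [← morphismRestrict_ι_assoc]
    exact IsEtLocal.precomp _ _ inferInstance hV

theorem loc_postcomp (P : MorphismProperty Scheme.{u}) [IsEtLocal P] (g : X ⟶ Y) (j : Y ⟶ Z) [Etale j] (x : X) :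
    Loc P (g ≫ j) x ↔ Loc P g x := by
  constructor <;> rintro ⟨U, hx, hU⟩ <;> refine ⟨U, hx, ?_⟩
  · exact IsEtLocal.cancel_right (U.ι ≫ g) j (by rwa [Category.assoc])
  · rw [← Category.assoc]
    exact IsEtLocal.postcomp _ _ hU inferInstance

theorem isOpen_loc (P : MorphismProperty Scheme.{u}) (f : X ⟶ Y) : IsOpen {x | Loc P f x} := by
  rw [isOpen_iff_forall_mem_open]
  rintro x ⟨U, hx, hU⟩
  exact ⟨U, fun z hz => ⟨U, hz, hU⟩, U.2, hx⟩

theorem loc_smooth_iff (f : X ⟶ Y) [LocallyOfFinitePresentation f] (x : X) :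
    Loc @Smooth f x ↔ x ∈ f.smoothLocus := by
  have h := Set.ext_iff.1 (CurvLocusLib.setOf_not_smooth_nhd f) x
  simp only [Set.mem_setOf_eq, Set.mem_compl_iff, SetLike.mem_coe, not_iff_not] at h
  exact h

theorem ptProp_smooth : GenLocus.PtProp.{u} (fun {_ _} h x => Loc @Smooth h x) where
  precomp e g _ _ _ x := loc_precomp _ e g x
  postcomp g j _ _ _ x := loc_postcomp _ g j x
  isOpen f _ _ := isOpen_loc _ f
  baseChange {X Y X' Y' p q f g} _ _ _ _ sq x' := by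
    rw [loc_smooth_iff, loc_smooth_iff, Groth.Agent.S2155.result f g q p sq (Or.inl inferInstance)]
    exact Iff.rfl

theorem smooth_iff_forall (h : X ⟶ Y) [LocallyOfFinitePresentation h] :
    Smooth h ↔ ∀ x, Loc @Smooth h x := by
  rw [← Scheme.Hom.smoothLocus_eq_top_iff, SetLike.ext_iff]
  simp [loc_smooth_iff]

/-- The relative dimension is constant near a point of smoothness. -/
theorem smooth_dim_const (f : X ⟶ Y) [LocallyOfFiniteType f] {x : X} (hx : Loc @Smooth f x) :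
    ∃ U : Set X, IsOpen U ∧ x ∈ U ∧ ∀ z ∈ U, FlatMor.fibreDimAt f z = FlatMor.fibreDimAt f x := by
  obtain ⟨W, hxW, hW⟩ := hx
  haveI : Smooth (W.ι ≫ f) := hW
  obtain ⟨V, j, v, n, hj, hv, hn⟩ := AlgSpDec.SmoothLocDim.exists_smoothOfRelativeDimension_nhd (W.ι ≫ f) ⟨x, hxW⟩
  refine ⟨Set.range (j ≫ W.ι), (j ≫ W.ι).isOpenEmbedding.isOpen_range, ⟨v, ?_⟩, ?_⟩
  · rw [Scheme.Hom.comp_apply, hv]; rfl
  · have key : ∀ w : V, FlatMor.fibreDimAt f ((j ≫ W.ι) w) = (n : WithBot ℕ∞) := fun w => by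
      haveI : SmoothOfRelativeDimension n ((j ≫ W.ι) ≫ f) := by rw [Category.assoc]; exact hn
      rw [← AlgSpDec.fibreDimAt_etale_comp]
      exact Groth.Agent.S2768.result n ((j ≫ W.ι) ≫ f) w
    rintro _ ⟨w, rfl⟩
    have hxv : (j ≫ W.ι) v = x := by rw [Scheme.Hom.comp_apply, hv]; rfl
    rw [key w, ← key v, hxv]

/-- A property of morphisms with constant fibre dimension near good points gives an open locus in each dimension. -/
theorem isOpen_and_dim {Q : ∀ {X Y : Scheme.{u}}, (X ⟶ Y) → X → Prop} (f : X ⟶ Y) (ho : IsOpen {x | Q f x})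
    (hd : ∀ x, Q f x → ∃ U : Set X, IsOpen U ∧ x ∈ U ∧ ∀ z ∈ U, FlatMor.fibreDimAt f z = FlatMor.fibreDimAt f x)
    (d : WithBot ℕ∞) : IsOpen {x | Q f x ∧ FlatMor.fibreDimAt f x = d} := by
  rw [isOpen_iff_forall_mem_open]
  rintro x ⟨hx, hxd⟩
  obtain ⟨U, hU, hxU, hUd⟩ := hd x hx
  exact ⟨U ∩ {z | Q f z}, fun z hz => ⟨hz.2, (hUd z hz.1).trans hxd⟩, hU.inter ho, hxU, hx⟩

theorem ptProp_and_dim {Q : ∀ {X Y : Scheme.{u}}, (X ⟶ Y) → X → Prop} (hQ : GenLocus.PtProp @Q)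
    (hd : ∀ {X Y : Scheme.{u}} (f : X ⟶ Y) [Flat f] [LocallyOfFinitePresentation f], ∀ x, Q f x →
      ∃ U : Set X, IsOpen U ∧ x ∈ U ∧ ∀ z ∈ U, FlatMor.fibreDimAt f z = FlatMor.fibreDimAt f x) (d : WithBot ℕ∞) :
    GenLocus.PtProp.{u} (fun {_ _} h x => Q h x ∧ FlatMor.fibreDimAt h x = d) where
  precomp e g _ _ _ x := by rw [hQ.precomp e g x, AlgSpDec.fibreDimAt_etale_comp]
  postcomp g j _ _ _ x := by rw [hQ.postcomp g j x, AlgSpDec.fibreDimAt_comp_etale]
  baseChange sq x' := by rw [hQ.baseChange sq x', FibDim.fibreDimAt_baseChange sq]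
  isOpen f _ _ := isOpen_and_dim f (hQ.isOpen f) (hd f) d

theorem smoothRelDim_iff_forall (n : ℕ) (h : X ⟶ Y) [LocallyOfFinitePresentation h] :
    SmoothOfRelativeDimension n h ↔ ∀ x, Loc @Smooth h x ∧ FlatMor.fibreDimAt h x = (n : WithBot ℕ∞) := by
  constructor
  · intro hn x
    haveI : Smooth h := SmoothOfRelativeDimension.smooth n h
    exact ⟨(smooth_iff_forall h).1 this x, Groth.Agent.S2768.result n h x⟩
  · intro H
    haveI : Smooth h := (smooth_iff_forall h).2 fun x => (H x).1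
    refine ⟨fun x => ?_⟩
    obtain ⟨V, j, v, m, hj, hv, hm⟩ := AlgSpDec.SmoothLocDim.exists_smoothOfRelativeDimension_nhd h x
    have hmn : m = n := by
      have h1 := Groth.Agent.S2768.result m (j ≫ h) v
      rw [AlgSpDec.fibreDimAt_etale_comp, (H _).2] at h1
      exact_mod_cast h1.symm
    subst hmn
    obtain ⟨U, hU, W, hW, hvW, e, hs⟩ := hm.exists_isStandardSmoothOfRelativeDimension v
    refine ⟨U, hU, j ''ᵁ W, hW.image_of_isOpenImmersion j, ⟨v, hvW, hv⟩, ?_, ?_⟩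
    · rintro _ ⟨w, hw, rfl⟩
      exact e hw
    · have := Scheme.Hom.appLE_comp_appLE j h U (j ''ᵁ W) W (by rintro _ ⟨w, hw, rfl⟩; exact e hw)
        (by rw [j.preimage_image_eq])
      rw [← this, CommRingCat.hom_comp] at hs
      have hi : IsIso (j.appLE (j ''ᵁ W) W (by rw [j.preimage_image_eq])) := by
        rw [← Scheme.Hom.appIso_hom']
        infer_instance
      exact (RingHom.isStandardSmoothOfRelativeDimension_respectsIso.cancel_right_isIso _ _).1 hs

/-- Etale morphisms are Cohen-Macaulay. -/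
theorem isCMAt_etale (e : X ⟶ Y) [Etale e] (x : X) : MoreMor.IsCMAt e x :=
  CMOpen5.isCMAt_of_quasiFiniteAt e x (Flat.stalkMap e x) (e.quasiFiniteAt x)

theorem noeth_fiber (f : X ⟶ Y) [LocallyOfFiniteType f] (y : Y) : IsLocallyNoetherian (f.fiber y) :=
  LocallyOfFiniteType.isLocallyNoetherian (f.fiberToSpecResidueField y)

theorem ptProp_cm : GenLocus.PtProp.{u} (fun {_ _} h x => MoreMor.IsCMAt h x) where
  precomp e g _ _ _ x :=
    ⟨fun h => (Groth.Agent.S9767.result e g x (noeth_fiber e _) (noeth_fiber g _) h (Flat.stalkMap e x)).2,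
      fun h => Groth.Agent.S9766.result e g x (noeth_fiber _ _) (isCMAt_etale e x) h⟩
  postcomp g j _ _ _ x :=
    ⟨fun h => (Groth.Agent.S9767.result g j x (noeth_fiber g _) (noeth_fiber j _) h (Flat.stalkMap g x)).1,
      fun h => Groth.Agent.S9766.result g j x (noeth_fiber _ _) h (isCMAt_etale j (g x))⟩
  isOpen f _ _ := Groth.Agent.S4961.result f
  baseChange {X Y X' Y' p q f g} _ _ _ _ sq x' := Set.ext_iff.1 (Groth.Agent.S1342.result f q p g sq) x'

/-- The relative dimension is constant near a Cohen-Macaulay point. -/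
theorem cm_dim_const (f : X ⟶ Y) [LocallyOfFinitePresentation f] {x : X} (hx : MoreMor.IsCMAt f x) :
    ∃ U : Set X, IsOpen U ∧ x ∈ U ∧ ∀ z ∈ U, FlatMor.fibreDimAt f z = FlatMor.fibreDimAt f x := by
  obtain ⟨n, U, hxU, g, hg, hqf, hfl⟩ := (CMOpen5.isCMAt_iff f x).1 hx
  let π := 𝔸(ULift.{u} (Fin n); Y) ↘ Y
  haveI : Smooth π := Groth.Agent.S12182.smooth_affineSpace _ Y
  haveI : LocallyOfFinitePresentation (g ≫ π) := by rw [hg]; infer_instance
  haveI : LocallyOfFinitePresentation g := AlgSpPts.locallyOfFinitePresentation_of_comp g π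
  obtain ⟨W, hW, hgW, hWd⟩ := smooth_dim_const π ((smooth_iff_forall π).1 inferInstance (g ⟨x, hxU⟩))
  have key : ∀ z : U, (g.stalkMap z).hom.Flat →
      FlatMor.fibreDimAt f (U.ι z) = FlatMor.fibreDimAt π (g z) := fun z hz => by
    rw [← AlgSpDec.fibreDimAt_etale_comp U.ι f z, ← hg, FibDim.fibreDimAt_comp_of_flat g π z hz,
      AlgSpDec.fibreDimAt_eq_zero_of_lqf g z, zero_add]
  refine ⟨U.ι '' ({z | (g.stalkMap z).hom.Flat} ∩ g ⁻¹' W),
    U.ι.isOpenEmbedding.isOpenMap _ ((FlatLocus.isOpen_flat_locus g).inter (hW.preimage g.continuous)),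
    ⟨⟨x, hxU⟩, ⟨hfl, hgW⟩, rfl⟩, ?_⟩
  rintro _ ⟨z, ⟨hz, hzW⟩, rfl⟩
  rw [key z hz, hWd (g z) hzW, ← key ⟨x, hxU⟩ hfl]
  rfl

end Groth.Agent.CurvOpenLib.Inst
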