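import Groth.Agent.CurvOpenLib.OpenSub

/-!
# Open loci give algebraic substacks, in arbitrary universes
-/

set_option autoImplicit false
set_option backward.isDefEq.respectTransparency false
set_option backward.isDefEq.respectTransparency.types false

universe wA vA wX vX wX' vX' wY vY w v u

open CategoryTheory CategoryTheory.Functor CategoryTheory.Limits AlgebraicGeometry AlgSp Groth.Agent.FibBase

namespace Groth.Agent.CurvOpenLib

variable {S : Scheme.{u}}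

section Restrict

variable {𝒜 : BasedCategory.{vA, wA} (Over S)} {𝒳' : BasedCategory.{vX', wX'} (Over S)}
  {𝒳 : BasedCategory.{vX, wX} (Over S)} {𝒴' 𝒴 : BasedCategory.{vY, wY} (Over S)}
  (y : 𝒜 ⥤ᵇ 𝒴') {f' : 𝒳' ⥤ᵇ 𝒴'} {f : 𝒳 ⥤ᵇ 𝒴} {b : 𝒳' ⥤ᵇ 𝒳} {c : 𝒴' ⥤ᵇ 𝒴}
  (sq : BasedFunctor.comp f' c ≅ BasedFunctor.comp b f)

/-- The comparison of fibre products along fully faithful functors. -/
def fpPush : FibCat.fp y f' ⥤ᵇ FibCat.fp (BasedFunctor.comp y c) f :=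
  FibCat.fpLift (FibCat.fpFst y f') (BasedFunctor.comp (FibCat.fpSnd y f') b)
    (whiskerRightIso (FibCat.fpIso y f') c ≪≫ whiskerLeftIso (FibCat.fpSnd y f') sq)

theorem fpPush_iso (x : (FibCat.fp y f').obj) :
    ((fpPush y sq).obj x).obj.iso.hom = c.map x.obj.iso.hom ≫ (isoApp sq x.obj.snd).hom := rfl

theorem fpPush_isEquivOver [b.toFunctor.Full] [b.toFunctor.Faithful] [c.toFunctor.Full] [c.toFunctor.Faithful]
    (h : ∀ (a : 𝒜.obj) (z : 𝒳.obj) (i : c.obj (y.obj a) ≅ f.obj z),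
      𝒴.p.IsHomLift (𝟙 (𝒜.p.obj a)) i.hom → ∃ (z' : 𝒳'.obj) (e : b.obj z' ≅ z),
        𝒳.p.IsHomLift (𝟙 (𝒜.p.obj a)) e.hom) :
    FibCat.IsEquivOver (fpPush y sq) := by
  refine isEquivOver_of_exists_iso _ ⟨fun {x x₁} t => ?_⟩ ⟨fun {x x₁} t t' h => ?_⟩ fun η => ?_
  · obtain ⟨q, hq⟩ := b.toFunctor.map_surjective (X := x.obj.snd) (Y := x₁.obj.snd) t.hom.snd
    refine ⟨ObjectProperty.homMk ⟨t.hom.fst, q, ?_⟩, ObjectProperty.hom_ext _ (CategoricalPullback.hom_ext rfl hq)⟩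
    have w := t.hom.w
    rw [fpPush_iso, fpPush_iso, ← hq] at w
    refine c.toFunctor.map_injective ?_
    rw [← cancel_mono (isoApp sq x₁.obj.snd).hom]
    simp only [Functor.map_comp, Category.assoc] at w ⊢
    have n : c.map (f'.map q) ≫ (isoApp sq x₁.obj.snd).hom =
        (isoApp sq x.obj.snd).hom ≫ f.map (b.map q) := natural sq q
    rw [n]
    exact w
  · exact ObjectProperty.hom_ext _ (CategoricalPullback.hom_ext
      (congrArg (fun s => s.hom.fst) h)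
      (b.toFunctor.map_injective (congrArg (fun s => s.hom.snd) h)))
  · have hη : 𝒴.p.IsHomLift (𝟙 (𝒜.p.obj η.obj.fst)) η.obj.iso.hom := η.property
    obtain ⟨z', e, he⟩ := h η.obj.fst η.obj.snd η.obj.iso hη
    have hz : 𝒳'.p.obj z' = 𝒜.p.obj η.obj.fst :=
      (b.w_obj z').symm.trans (IsHomLift.domain_eq 𝒳.p (𝟙 (𝒜.p.obj η.obj.fst)) e.hom)
    let i : c.obj (y.obj η.obj.fst) ≅ c.obj (f'.obj z') :=
      η.obj.iso ≪≫ (f.toFunctor.mapIso e).symm ≪≫ (isoApp sq z').symm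
    have hi : 𝒴.p.IsHomLift (𝟙 (𝒜.p.obj η.obj.fst)) i.hom := by
      have := isoApp_inv_lift sq hz
      have : 𝒴.p.IsHomLift (𝟙 (𝒜.p.obj η.obj.fst)) (f.toFunctor.mapIso e).hom := f.preserves_isHomLift _ e.hom
      have := IsHomLift.lift_id_inv 𝒴.p (𝒜.p.obj η.obj.fst) (f.toFunctor.mapIso e)
      show 𝒴.p.IsHomLift (𝟙 (𝒜.p.obj η.obj.fst))
        (η.obj.iso.hom ≫ (f.toFunctor.mapIso e).inv ≫ (isoApp sq z').inv)
      infer_instance
    refine ⟨⟨⟨η.obj.fst, z', c.toFunctor.preimageIso i⟩, ?_⟩, fpIsoMk (Iso.refl _) e ?_, ?_⟩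
    · show 𝒴'.p.IsHomLift (𝟙 (𝒜.p.obj η.obj.fst)) (c.toFunctor.preimageIso i).hom
      rw [← c.isHomLift_iff, Functor.preimageIso_hom, Functor.map_preimage]
      exact hi
    · show c.map (y.map (𝟙 η.obj.fst)) ≫ η.obj.iso.hom =
        (c.map (c.toFunctor.preimageIso i).hom ≫ (isoApp sq z').hom) ≫ f.map e.hom
      rw [Functor.preimageIso_hom, Functor.map_preimage]
      simp only [i, Iso.trans_hom, Iso.symm_hom, Functor.mapIso_inv, Category.assoc, Iso.inv_hom_id_assoc]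
      rw [← f.toFunctor.map_comp, Iso.inv_hom_id, f.toFunctor.map_id, Category.comp_id,
        y.toFunctor.map_id, c.toFunctor.map_id, Category.id_comp]
    · exact fp_isHomLift (𝟙 _) _ (h := IsHomLift.id rfl)

end Restrict

namespace LocusData

variable {𝒳 : BasedCategory.{v, w} (Over S)} {Q : 𝒳.obj → Prop} (D : LocusData Q)
include D

theorem repByAlgSp1_diag (h : AlgSt.RepByAlgSp1 (FibCat.diag (FibCat.toSelf 𝒳))) :
    AlgSt.RepByAlgSp1 (FibCat.diag (FibCat.toSelf (AlgSt.fullSub 𝒳 Q))) := fun U y => by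
  let t := FibCat.toSelf (AlgSt.fullSub 𝒳 Q)
  let i := AlgSt.subIncl 𝒳 Q
  let c : FibCat.fp t t ⥤ᵇ FibCat.fp (FibCat.toSelf 𝒳) (FibCat.toSelf 𝒳) :=
    FibCat.fpLift (BasedFunctor.comp (FibCat.fpFst t t) i) (BasedFunctor.comp (FibCat.fpSnd t t) i)
      (FibCat.fpIso t t)
  have : c.toFunctor.Full := ⟨fun {x z} s => ⟨ObjectProperty.homMk
    ⟨ObjectProperty.homMk s.hom.fst, ObjectProperty.homMk s.hom.snd, s.hom.w⟩,
    ObjectProperty.hom_ext _ (CategoricalPullback.hom_ext rfl rfl)⟩⟩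
  have : c.toFunctor.Faithful := ⟨fun {x z} s s' hs => ObjectProperty.hom_ext _ (CategoricalPullback.hom_ext
    (ObjectProperty.hom_ext _ (congrArg (fun k => k.hom.fst) hs))
    (ObjectProperty.hom_ext _ (congrArg (fun k => k.hom.snd) hs)))⟩
  have : i.toFunctor.Full := inferInstanceAs (ObjectProperty.ι Q).Full
  have : i.toFunctor.Faithful := inferInstanceAs (ObjectProperty.ι Q).Faithful
  let sq : BasedFunctor.comp (FibCat.diag t) c ≅ BasedFunctor.comp i (FibCat.diag (FibCat.toSelf 𝒳)) :=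
    Iso.refl _
  have he : FibCat.IsEquivOver (fpPush y sq) := fpPush_isEquivOver y sq fun a z j hj => by
    have hQ : Q z := D.closedUnderIso.of_iso
      (((FibCat.fpFst (FibCat.toSelf 𝒳) (FibCat.toSelf 𝒳)).toFunctor.mapIso j)) (y.obj a).obj.fst.property
    exact ⟨⟨z, hQ⟩, Iso.refl _, IsHomLift.id
      ((FibCat.diag (FibCat.toSelf 𝒳)).w_obj z ▸ IsHomLift.codomain_eq
        (FibCat.fp (FibCat.toSelf 𝒳) (FibCat.toSelf 𝒳)).p (𝟙 _) j.hom)⟩
  obtain ⟨G, ⟨k₁⟩, ⟨k₂⟩⟩ := he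
  obtain ⟨F, e, he'⟩ := h U (BasedFunctor.comp y c)
  exact ⟨F, BasedFunctor.comp e G, isEquivOver_comp he' ⟨fpPush y sq, ⟨k₂⟩, ⟨k₁⟩⟩⟩

theorem repByAlgSpWith_chart {P : MorphismProperty (Sp S)} {U₀ : Over S} (x : FibCat.overCat U₀ ⥤ᵇ 𝒳)
    (x' : FibCat.overCat (Over.mk ((D.locus x).ι ≫ U₀.hom)) ⥤ᵇ AlgSt.fullSub 𝒳 Q)
    (sq : BasedFunctor.comp x' (AlgSt.subIncl 𝒳 Q) ≅
      BasedFunctor.comp (AlgSt.overMap (Over.homMk (D.locus x).ι rfl : Over.mk ((D.locus x).ι ≫ U₀.hom) ⟶ U₀)) x)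
    (hx : AlgSt.RepByAlgSpWith P x) : AlgSt.RepByAlgSpWith P x' := fun U y => by
  let j : Over.mk ((D.locus x).ι ≫ U₀.hom) ⟶ U₀ := Over.homMk (D.locus x).ι rfl
  have hb : (AlgSt.overMap j).toFunctor.Full := ⟨fun {a b} t => by
    have hw : t.left ≫ b.hom ≫ j = a.hom ≫ j := Over.w t
    have hm : t.left ≫ b.hom = a.hom := by
      refine Over.OverMorphism.ext ((cancel_mono (D.locus x).ι).1 ?_)
      have := congrArg CommaMorphism.left hw
      simp only [Over.comp_left] at this ⊢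
      exact (Category.assoc _ _ _).trans this
    exact ⟨Over.homMk t.left hm, Over.OverMorphism.ext rfl⟩⟩
  have hb' : (AlgSt.overMap j).toFunctor.Faithful := ⟨fun {a b} t t' h => Over.OverMorphism.ext (congrArg (fun k => k.left) h)⟩
  have : (AlgSt.subIncl 𝒳 Q).toFunctor.Full := inferInstanceAs (ObjectProperty.ι Q).Full
  have : (AlgSt.subIncl 𝒳 Q).toFunctor.Faithful := inferInstanceAs (ObjectProperty.ι Q).Faithful
  have he : FibCat.IsEquivOver (fpPush y sq) := fpPush_isEquivOver y sq fun a z i hi => by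
    have hQ : Q (x.obj z) := D.closedUnderIso.of_iso i (y.obj a).property
    have hr : Set.range z.hom.left ⊆ Set.range (D.locus x).ι := by
      rw [Scheme.Opens.range_ι]
      exact (D.chart_iff x z).1 hQ
    let l : z.left ⟶ Over.mk ((D.locus x).ι ≫ U₀.hom) :=
      Over.homMk (IsOpenImmersion.lift (D.locus x).ι z.hom.left hr) (by
        show _ ≫ (D.locus x).ι ≫ U₀.hom = _
        rw [← Category.assoc, IsOpenImmersion.lift_fac]
        exact Over.w z.hom)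
    have hl : l ≫ j = z.hom := Over.OverMorphism.ext (IsOpenImmersion.lift_fac _ _ _)
    refine ⟨Over.mk l, Over.isoMk (Iso.refl z.left) ((Category.id_comp _).trans hl.symm), ?_⟩
    have hz : z.left = (FibCat.overCat U).p.obj a :=
      (x.w_obj z).symm.trans (IsHomLift.codomain_eq 𝒳.p (𝟙 _) i.hom)
    refine IsHomLift.of_fac' _ _ _ hz hz ?_
    show 𝟙 z.left = eqToHom hz ≫ 𝟙 _ ≫ eqToHom hz.symm
    rw [Category.id_comp, eqToHom_trans, eqToHom_refl]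
  obtain ⟨G, ⟨k₁⟩, ⟨k₂⟩⟩ := he
  obtain ⟨F, e, he', hP⟩ := hx U (BasedFunctor.comp y (AlgSt.subIncl 𝒳 Q))
  refine ⟨F, BasedFunctor.comp e G, isEquivOver_comp he' ⟨fpPush y sq, ⟨k₂⟩, ⟨k₁⟩⟩, ?_⟩
  rw [AlgStLib.spMapOfOver_congr (show BasedFunctor.comp (BasedFunctor.comp e G) (FibCat.fpFst y x') ≅
    BasedFunctor.comp e (FibCat.fpFst (BasedFunctor.comp y (AlgSt.subIncl 𝒳 Q)) x) from
      whiskerLeftIso e (whiskerRightIso k₂ (FibCat.fpFst (BasedFunctor.comp y (AlgSt.subIncl 𝒳 Q)) x)))]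
  exact hP

theorem hasAtlas {P : MorphismProperty (Sp S)} (h : AlgSt.HasAtlas P 𝒳) :
    AlgSt.HasAtlas P (AlgSt.fullSub 𝒳 Q) := by
  obtain ⟨U₀, x, hP, hs⟩ := h
  let j : Over.mk ((D.locus x).ι ≫ U₀.hom) ⟶ U₀ := Over.homMk (D.locus x).ι rfl
  let x' : FibCat.overCat (Over.mk ((D.locus x).ι ≫ U₀.hom)) ⥤ᵇ AlgSt.fullSub 𝒳 Q :=
    { toFunctor := ObjectProperty.lift _ (BasedFunctor.comp (AlgSt.overMap j) x).toFunctor fun c =>
        (D.chart_iff x _).2 fun _ ⟨w, hw⟩ => by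
          subst hw
          exact (c.hom.left w).2
      w := (BasedFunctor.comp (AlgSt.overMap j) x).w }
  exact ⟨_, x', D.repByAlgSpWith_chart x x' (Iso.refl _) hP, D.repByAlgSpWith_chart x x' (Iso.refl _) hs⟩

theorem isAlgStack {K : Precoverage Scheme.{u}} (hK : JointSurj K S) (h : AlgSt.IsAlgStack K 𝒳) :
    AlgSt.IsAlgStack K (AlgSt.fullSub 𝒳 Q) :=
  ⟨D.isStack hK h.isStack, D.repByAlgSp1_diag h.diag, D.hasAtlas h.atlas⟩

theorem isOpenSubstack {K : Precoverage Scheme.{u}} (hK : JointSurj K S) (h : AlgSt.IsAlgStack K 𝒳) :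
    AlgSt.IsOpenSubstack 𝒳 Q K :=
  ⟨D.closedUnderIso, D.isAlgStack hK h, D.isOpenImm⟩

end LocusData

end Groth.Agent.CurvOpenLib
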