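import Groth.Prelude.Def_AlgSt4
import Groth.Agent.StkLib.Sieves
import Groth.Agent.FibBase.Fp
import Groth.Agent.FibBase.FpMaps
import Groth.Agent.AlgStLib.LocQ

/-!
# Open substacks cut out by open loci on the bases, in arbitrary universes
-/

set_option autoImplicit false
set_option backward.isDefEq.respectTransparency false
set_option backward.isDefEq.respectTransparency.types false

universe w v u

open CategoryTheory CategoryTheory.Functor CategoryTheory.Limits AlgebraicGeometry AlgSp Groth.Agent.FibBase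

namespace Groth.Agent.CurvOpenLib

variable {S : Scheme.{u}}

instance : (Scheme.etalePrecoverage : Precoverage Scheme.{u}).HasIsos := by unfold Scheme.etalePrecoverage; infer_instance
instance : (Scheme.fppfPrecoverage : Precoverage Scheme.{u}).HasIsos :=
  inferInstanceAs (Scheme.precoverage (@Flat ⊓ @LocallyOfFinitePresentation)).HasIsos
instance : (Scheme.etalePrecoverage : Precoverage Scheme.{u}).IsStableUnderComposition := by unfold Scheme.etalePrecoverage; infer_instance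
instance : (Scheme.etalePrecoverage : Precoverage Scheme.{u}).IsStableUnderBaseChange := by unfold Scheme.etalePrecoverage; infer_instance

/-- Covering sieves are jointly surjective. -/
def JointSurj (K : Precoverage Scheme.{u}) (S : Scheme.{u}) : Prop :=
  ∀ ⦃U : Over S⦄ (R : Sieve U), R ∈ QuotSh.J K S U → ∀ t : U.left,
    ∃ (W : Over S) (f : W ⟶ U), R f ∧ t ∈ Set.range f.left

theorem jointSurj_of_cover (K : Precoverage Scheme.{u}) (S : Scheme.{u})
    (h : ∀ {Z : Scheme.{u}} (s : Sieve Z), s ∈ K.toGrothendieck Z → ∀ z : Z,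
      ∃ (W : Scheme.{u}) (f : W ⟶ Z), s f ∧ z ∈ Set.range f) : JointSurj K S := by
  intro U R hR t
  rw [GrothendieckTopology.mem_over_iff] at hR
  obtain ⟨W, f, hf, ht⟩ := h _ hR t
  rw [Sieve.overEquiv_iff] at hf
  exact ⟨Over.mk (f ≫ U.hom), Over.homMk f rfl, hf, ht⟩

theorem jointSurj_fppf (S : Scheme.{u}) : JointSurj Scheme.fppfPrecoverage S :=
  jointSurj_of_cover _ S fun s hs z => by
    obtain ⟨R, ⟨hR₁, -⟩, hle⟩ := Precoverage.mem_toGrothendieck_iff_of_isStableUnderComposition.mp hs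
    obtain ⟨_, _, ⟨hf⟩, hz⟩ := hR₁ z
    exact ⟨_, _, hle _ _ hf, hz⟩

theorem jointSurj_etale (S : Scheme.{u}) : JointSurj Scheme.etalePrecoverage S :=
  jointSurj_of_cover _ S fun s hs z => by
    obtain ⟨R, ⟨hR₁, -⟩, hle⟩ := Precoverage.mem_toGrothendieck_iff_of_isStableUnderComposition.mp hs
    obtain ⟨_, _, ⟨hf⟩, hz⟩ := hR₁ z
    exact ⟨_, _, hle _ _ hf, hz⟩

variable {𝒳 : BasedCategory.{v, w} (Over S)} {Q : 𝒳.obj → Prop}

/-- Lifting of morphisms to a full subcategory. -/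
theorem isHomLift_fullSub {x y : (AlgSt.fullSub 𝒳 Q).obj} {a b : Over S} (f : a ⟶ b) (φ : x ⟶ y) :
    (AlgSt.fullSub 𝒳 Q).p.IsHomLift f φ ↔ 𝒳.p.IsHomLift f φ.hom :=
  ⟨fun _ => IsHomLift.of_fac 𝒳.p f φ.hom (IsHomLift.domain_eq (AlgSt.fullSub 𝒳 Q).p f φ)
      (IsHomLift.codomain_eq (AlgSt.fullSub 𝒳 Q).p f φ) (IsHomLift.fac (AlgSt.fullSub 𝒳 Q).p f φ),
    fun _ => IsHomLift.of_fac (AlgSt.fullSub 𝒳 Q).p f φ (IsHomLift.domain_eq 𝒳.p f φ.hom)
      (IsHomLift.codomain_eq 𝒳.p f φ.hom) (IsHomLift.fac 𝒳.p f φ.hom)⟩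

/-- A full subcategory stable under passage to the source of morphisms is fibred in groupoids. -/
theorem isFibGrpd_fullSub (h𝒳 : FibCat.IsFibGrpd 𝒳.p) (hQ : ∀ ⦃y x : 𝒳.obj⦄, (y ⟶ x) → Q x → Q y) :
    FibCat.IsFibGrpd (AlgSt.fullSub 𝒳 Q).p := by
  refine ⟨fun {x V} f => ?_, fun {y x} φ => ?_⟩
  · obtain ⟨y, φ, hφ⟩ := h𝒳.exists_lift (x := x.obj) f
    exact ⟨⟨y, hQ φ x.property⟩, ObjectProperty.homMk φ, (isHomLift_fullSub _ _).2 hφ⟩
  · have := h𝒳.isStronglyCartesian φ.hom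
    have : (AlgSt.fullSub 𝒳 Q).p.IsHomLift ((AlgSt.fullSub 𝒳 Q).p.map φ) φ :=
      (isHomLift_fullSub _ _).2 (show 𝒳.p.IsHomLift (𝒳.p.map φ.hom) φ.hom from inferInstance)
    refine { universal_property' := fun {a'} g φ' hφ' => ?_ }
    have hφ2 : 𝒳.p.IsHomLift (g ≫ 𝒳.p.map φ.hom) φ'.hom := (isHomLift_fullSub (g ≫ 𝒳.p.map φ.hom) φ').1 hφ'
    obtain ⟨χ, ⟨hχ, e⟩, huniq⟩ := Functor.IsStronglyCartesian.universal_property 𝒳.p (𝒳.p.map φ.hom) φ.hom g
      (g ≫ 𝒳.p.map φ.hom) rfl φ'.hom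
    exact ⟨ObjectProperty.homMk χ, ⟨(isHomLift_fullSub _ _).2 hχ, ObjectProperty.hom_ext _ e⟩,
      fun χ' ⟨h₁, h₂⟩ => ObjectProperty.hom_ext _ (huniq χ'.hom
        ⟨(isHomLift_fullSub _ _).1 h₁, congrArg (fun k => k.hom) h₂⟩)⟩

/-- An assignment of open loci on the bases cutting out `Q`. -/
structure LocusData (Q : 𝒳.obj → Prop) where
  /-- the locus -/
  V : ∀ x : 𝒳.obj, (𝒳.p.obj x).left.Opens
  spec : ∀ ⦃y x : 𝒳.obj⦄ (φ : y ⟶ x), Q y ↔ Set.range (𝒳.p.map φ).left ⊆ V x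

namespace LocusData

variable (D : LocusData Q)
include D

theorem self_iff (x : 𝒳.obj) : Q x ↔ ∀ t, t ∈ D.V x := by
  rw [D.spec (𝟙 x), CategoryTheory.Functor.map_id, Over.id_left]
  exact ⟨fun h t => h ⟨t, rfl⟩, fun h t _ => h t⟩

theorem of_hom ⦃y x : 𝒳.obj⦄ (φ : y ⟶ x) (h : Q x) : Q y :=
  (D.spec φ).2 fun t _ => (D.self_iff x).1 h t

theorem closedUnderIso : ObjectProperty.IsClosedUnderIsomorphisms Q :=
  ⟨fun e h => D.of_hom e.inv h⟩

theorem of_isHomLift {y x : 𝒳.obj} {T U : Over S} (f : T ⟶ U) (φ : y ⟶ x) [𝒳.p.IsHomLift f φ]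
    (O : U.left.Opens) (hO : ∀ hx : U = 𝒳.p.obj x, ∀ t : U.left, t ∈ O ↔ (eqToHom hx).left t ∈ D.V x) :
    Q y ↔ Set.range f.left ⊆ O := by
  subst_hom_lift 𝒳.p f φ
  rw [D.spec φ]
  have h1 : ∀ t, t ∈ O ↔ t ∈ D.V x := fun t => (hO rfl t).trans (by simp)
  constructor
  · intro h t ht; exact (h1 t).2 (h ht)
  · intro h t ht; exact (h1 t).1 (h ht)

/-- The locus on the base of a chart. -/
noncomputable def locus {U : Over S} (G : FibCat.overCat U ⥤ᵇ 𝒳) : U.left.Opens :=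
  (eqToHom (G.w_obj (Over.mk (𝟙 U))).symm : U ⟶ 𝒳.p.obj (G.obj (Over.mk (𝟙 U)))).left ⁻¹ᵁ
    D.V (G.obj (Over.mk (𝟙 U)))

theorem chart_iff {U : Over S} (G : FibCat.overCat U ⥤ᵇ 𝒳) (a : Over U) :
    Q (G.obj a) ↔ Set.range a.hom.left ⊆ D.locus G := by
  have : (FibCat.overCat U).p.IsHomLift a.hom (toId a) :=
    IsHomLift.of_fac (FibCat.overCat U).p a.hom (toId a) rfl rfl (by
      show a.hom = 𝟙 _ ≫ (toId a).left ≫ 𝟙 _
      simp [toId])
  have := G.preserves_isHomLift a.hom (toId a)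
  exact D.of_isHomLift a.hom (G.map (toId a)) (D.locus G) fun _ _ => Iff.rfl

theorem chart_of_mem {U : Over S} (G : FibCat.overCat U ⥤ᵇ 𝒳) (h : ∀ t, t ∈ D.locus G) (a : Over U) :
    Q (G.obj a) := (D.chart_iff G a).2 fun t _ => h t

theorem isStack {K : Precoverage Scheme.{u}} (hK : JointSurj K S) (h𝒳 : Stk.IsStack (QuotSh.J K S) 𝒳) :
    Stk.IsStack (QuotSh.J K S) (AlgSt.fullSub 𝒳 Q) := by
  refine ⟨isFibGrpd_fullSub h𝒳.1 D.of_hom, fun U R hR => ?_⟩
  let F := AlgSt.subIncl 𝒳 Q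
  have : F.toFunctor.Full := inferInstanceAs (ObjectProperty.ι Q).Full
  have : F.toFunctor.Faithful := inferInstanceAs (ObjectProperty.ι Q).Faithful
  have hs : (Stk.resSieve R 𝒳).IsEquivalence := h𝒳.2 R hR
  obtain ⟨hf, hf'⟩ : Stk.IsPrestackFor R (AlgSt.fullSub 𝒳 Q) :=
    Groth.Agent.StkLib.isPrestackFor_of_fullyFaithful (F := F) ⟨inferInstance, inferInstance⟩
  refine { full := hf, faithful := hf', essSurj := ⟨fun H => ?_⟩ }
  let G : FibCat.overCat U ⥤ᵇ 𝒳 := (Stk.resSieve R 𝒳).objPreimage (BasedFunctor.comp H F)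
  let e : BasedFunctor.comp (Stk.sieveIncl R) G ≅ BasedFunctor.comp H F :=
    (Stk.resSieve R 𝒳).objObjPreimageIso (BasedFunctor.comp H F)
  have hall : ∀ t, t ∈ D.locus G := fun t => by
    obtain ⟨W, f, hf, v, rfl⟩ := hK R hR t
    have hQ : Q (G.obj (Over.mk f)) :=
      D.of_hom (isoApp e (Groth.Agent.StkLib.sob f hf)).hom (H.obj (Groth.Agent.StkLib.sob f hf)).property
    exact (D.chart_iff G (Over.mk f)).1 hQ ⟨v, rfl⟩
  let G' : FibCat.overCat U ⥤ᵇ AlgSt.fullSub 𝒳 Q :=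
    { toFunctor := ObjectProperty.lift Q G.toFunctor (D.chart_of_mem G hall)
      w := G.w }
  refine ⟨G', ⟨BasedNatIso.mkNatIso (NatIso.ofComponents (fun a => ObjectProperty.isoMk Q (isoApp e a))
    fun φ => ObjectProperty.hom_ext _ (natural e φ)) fun a => ?_⟩⟩
  exact (isHomLift_fullSub _ _).2 (isoApp_lift e rfl)

theorem isOpenImm : AlgSt.IsOpenImm (AlgSt.subIncl 𝒳 Q) := fun U y => by
  let V := D.locus y
  let Vs : Over S := Over.mk (V.ι ≫ U.hom)
  let j : Vs ⟶ U := Over.homMk V.ι rfl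
  have hmem : ∀ c : Over Vs, Q (y.obj ((AlgSt.overMap j).obj c)) := fun c =>
    (D.chart_iff y _).2 fun _ ⟨w, hw⟩ => by
      subst hw
      exact (c.hom.left w).2
  let y' : FibCat.overCat Vs ⥤ᵇ AlgSt.fullSub 𝒳 Q :=
    { toFunctor := ObjectProperty.lift _ (BasedFunctor.comp (AlgSt.overMap j) y).toFunctor hmem
      w := (BasedFunctor.comp (AlgSt.overMap j) y).w }
  let e : FibCat.overCat Vs ⥤ᵇ FibCat.fp y (AlgSt.subIncl 𝒳 Q) :=
    FibCat.fpLift (AlgSt.overMap j) y' (Iso.refl (BasedFunctor.comp (AlgSt.overMap j) y))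
  have he : FibCat.IsEquivOver e := by
    refine isEquivOver_of_exists_iso _ ⟨fun {a b} t => ?_⟩ ⟨fun {a b} t t' h => ?_⟩ fun η => ?_
    · have hw : t.hom.fst.left ≫ b.hom ≫ j = a.hom ≫ j := Over.w t.hom.fst
      have hm : t.hom.fst.left ≫ b.hom = a.hom := by
        refine Over.OverMorphism.ext ((cancel_mono V.ι).1 ?_)
        have := congrArg CommaMorphism.left hw
        simp only [Over.comp_left] at this ⊢
        exact (Category.assoc _ _ _).trans this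
      let φ : a ⟶ b := Over.homMk t.hom.fst.left hm
      have hfst : (AlgSt.overMap j).map φ = t.hom.fst := Over.OverMorphism.ext rfl
      refine ⟨φ, ?_⟩
      refine ObjectProperty.hom_ext _ (CategoricalPullback.hom_ext hfst (ObjectProperty.hom_ext _ ?_))
      have h := t.hom.w
      have h' : y.map t.hom.fst ≫ 𝟙 _ = 𝟙 _ ≫ t.hom.snd.hom := h
      show y.map ((AlgSt.overMap j).map φ) = t.hom.snd.hom
      rw [hfst]
      exact ((Category.comp_id _).symm.trans h').trans (Category.id_comp _)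
    · have := congrArg (fun k => k.hom.fst.left) h
      exact Over.OverMorphism.ext this
    · let a := η.obj.fst
      have ha : Q (y.obj a) := D.of_hom η.obj.iso.hom η.obj.snd.property
      have hr : Set.range a.hom.left ⊆ Set.range V.ι := by
        rw [Scheme.Opens.range_ι]
        exact (D.chart_iff y a).1 ha
      let l : a.left ⟶ Vs := Over.homMk (IsOpenImmersion.lift V.ι a.hom.left hr) (by
        show _ ≫ V.ι ≫ U.hom = _
        rw [← Category.assoc, IsOpenImmersion.lift_fac]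
        exact Over.w a.hom)
      have hl : l ≫ j = a.hom := Over.OverMorphism.ext (IsOpenImmersion.lift_fac _ _ _)
      let i₁ : (AlgSt.overMap j).obj (Over.mk l) ≅ a := Over.isoMk (Iso.refl a.left)
        ((Category.id_comp _).trans hl.symm)
      let i₂ : y'.obj (Over.mk l) ≅ η.obj.snd := ObjectProperty.isoMk _ (y.toFunctor.mapIso i₁ ≪≫ η.obj.iso)
      refine ⟨Over.mk l, fpIsoMk (x := e.obj (Over.mk l)) (y := η) i₁ i₂ ?_, ?_⟩
      · show y.map i₁.hom ≫ η.obj.iso.hom = 𝟙 _ ≫ (y.map i₁.hom ≫ η.obj.iso.hom)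
        simp
      · exact fp_isHomLift (𝟙 _) _ (h := IsHomLift.of_fac _ _ _ rfl rfl (by
          show 𝟙 a.left = 𝟙 _ ≫ 𝟙 a.left ≫ 𝟙 _
          simp))
  refine ⟨⟨(yon S).obj Vs, IsAlgSpace.yon_obj Vs⟩, BasedFunctor.comp (AlgSt.toOverCat Vs) e,
    isEquivOver_comp (AlgStLib.isEquivOver_toOverCat Vs) he, ?_⟩
  rw [AlgStLib.spMapOfOver_congr (show BasedFunctor.comp (BasedFunctor.comp (AlgSt.toOverCat Vs) e) (FibCat.fpFst y _) ≅
      BasedFunctor.comp (AlgSt.ofSpMap ((yon S).map j)) (AlgSt.toOverCat U) from AlgStLib.toOverCatMapIso j),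
    AlgStLib.spMapOfOver_ofSpMap_toOverCat]
  exact (repWith_yon_map_iff _ j).2 (inferInstanceAs (IsOpenImmersion V.ι))

end LocusData

end Groth.Agent.CurvOpenLib
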